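import Mathlib

/-!
# Smaller alternating sections
-/

set_option autoImplicit false
set_option linter.style.haveILetI false
set_option maxRecDepth 10000

namespace Cfsg.Lib.Known.AltSections

universe u

/-- The embedding of a smaller alternating group. -/
theorem exists_alt_emb {k r : ℕ} (h : k ≤ r) :
    ∃ ι : ↥(alternatingGroup (Fin k)) →* ↥(alternatingGroup (Fin r)), Function.Injective ι := by
  classical
  let φ := Equiv.Perm.viaEmbeddingHom (Fin.castLEEmb h)
  have hsign : ∀ e : Equiv.Perm (Fin k), Equiv.Perm.sign (φ e) = Equiv.Perm.sign e := fun e => by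
    show Equiv.Perm.sign (e.viaEmbedding (Fin.castLEEmb h)) = _
    rw [Equiv.Perm.viaEmbedding, Equiv.Perm.sign_extendDomain]
  refine ⟨(φ.comp (alternatingGroup (Fin k)).subtype).codRestrict _ fun a => ?_, fun a b e => ?_⟩
  · rw [Equiv.Perm.mem_alternatingGroup]
    exact (hsign a).trans (Equiv.Perm.mem_alternatingGroup.1 a.2)
  · exact Subtype.ext (Equiv.Perm.viaEmbeddingHom_injective _ (congrArg Subtype.val e))

variable {G : Type u} [Group G]

/-- An alternating section restricts to the smaller degrees. -/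
theorem restrict {k r : ℕ} (h : k ≤ r) (H : Subgroup G) (N : Subgroup ↥H) [N.Normal]
    (e : ↥H ⧸ N ≃* ↥(alternatingGroup (Fin r))) :
    ∃ (X : Subgroup G) (f : ↥X →* ↥(alternatingGroup (Fin k))), Function.Surjective f := by
  obtain ⟨ι, hι⟩ := exists_alt_emb h
  let π : ↥H →* ↥(alternatingGroup (Fin r)) := e.toMonoidHom.comp (QuotientGroup.mk' N)
  have hπ : Function.Surjective π := e.surjective.comp (QuotientGroup.mk'_surjective N)
  let e' := MonoidHom.ofInjective hι
  let φ : ↥(ι.range.comap π) →* ↥(alternatingGroup (Fin k)) := e'.symm.toMonoidHom.comp (π.subgroupComap ι.range)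
  have hφ : Function.Surjective φ :=
    e'.symm.surjective.comp (MonoidHom.subgroupComap_surjective_of_surjective π ι.range hπ)
  refine ⟨(ι.range.comap π).map H.subtype,
    φ.comp ((ι.range.comap π).equivMapOfInjective H.subtype H.subtype_injective).symm.toMonoidHom, ?_⟩
  exact hφ.comp ((ι.range.comap π).equivMapOfInjective H.subtype H.subtype_injective).symm.surjective

/-- A five-cycle and an even permutation inducing an automorphism of order four. -/
theorem five_data : ∃ x y : ↥(alternatingGroup (Fin 7)), orderOf x = 5 ∧ y * x * y⁻¹ = x ^ 2 := by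
  refine ⟨⟨c[(0 : Fin 7), 1, 2, 3, 4], Equiv.Perm.mem_alternatingGroup.2 (by decide +kernel)⟩,
    ⟨c[(1 : Fin 7), 2, 4, 3] * c[(5 : Fin 7), 6], Equiv.Perm.mem_alternatingGroup.2 (by decide +kernel)⟩, ?_, ?_⟩
  · haveI : Fact (Nat.Prime 5) := ⟨by norm_num⟩
    exact orderOf_eq_prime (by decide +kernel) (by decide +kernel)
  · decide +kernel

/-- A seven-cycle and an even permutation inducing an automorphism of order three. -/
theorem seven_data : ∃ x y : ↥(alternatingGroup (Fin 7)), orderOf x = 7 ∧ y * x * y⁻¹ = x ^ 2 := by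
  refine ⟨⟨c[(0 : Fin 7), 1, 2, 3, 4, 5, 6], Equiv.Perm.mem_alternatingGroup.2 (by decide +kernel)⟩,
    ⟨c[(1 : Fin 7), 2, 4] * c[(3 : Fin 7), 6, 5], Equiv.Perm.mem_alternatingGroup.2 (by decide +kernel)⟩, ?_, ?_⟩
  · haveI : Fact (Nat.Prime 7) := ⟨by norm_num⟩
    exact orderOf_eq_prime (by decide +kernel) (by decide +kernel)
  · decide +kernel

/-- An eleven-cycle and an even permutation inducing an automorphism of order five. -/
theorem eleven_data : ∃ x y : ↥(alternatingGroup (Fin 11)), orderOf x = 11 ∧ y * x * y⁻¹ = x ^ 4 := by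
  refine ⟨⟨c[(0 : Fin 11), 1, 2, 3, 4, 5, 6, 7, 8, 9, 10], Equiv.Perm.mem_alternatingGroup.2 (by decide +kernel)⟩,
    ⟨c[(1 : Fin 11), 4, 5, 9, 3] * c[(2 : Fin 11), 8, 10, 7, 6], Equiv.Perm.mem_alternatingGroup.2 (by decide +kernel)⟩, ?_, ?_⟩
  · haveI : Fact (Nat.Prime 11) := ⟨by norm_num⟩
    exact orderOf_eq_prime (by decide +kernel) (by decide +kernel)
  · decide +kernel

end Cfsg.Lib.Known.AltSections
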