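import Cfsg.Agent.Known.AltSections.EightPairs

/-!
# No alternating section of degree eight over a small abelian group

A group with a subgroup of odd index which has an abelian normal subgroup of small two-rank and
index not divisible by eight has no alternating section of degree eight.
-/

set_option autoImplicit false
set_option maxRecDepth 10000
set_option linter.style.haveILetI false

namespace Cfsg.Lib.Known.AltSections

open Equiv

universe u

variable {G : Type u} [Group G] [Finite G]

/-- A two-subgroup is conjugate into a subgroup of odd index. -/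
theorem exists_conj_le {P Nn : Subgroup G} (hP : IsPGroup 2 ↥P) (hodd : ¬2 ∣ Nn.index) :
    ∃ g : G, ∀ p ∈ P, g * p * g⁻¹ ∈ Nn := by
  haveI : Fact (Nat.Prime 2) := ⟨Nat.prime_two⟩
  obtain ⟨Q, hQ⟩ := hP.exists_le_sylow
  obtain ⟨Q₀⟩ : Nonempty (Sylow 2 ↥Nn) := inferInstance
  have hQ₀ : IsPGroup 2 ↥((Q₀ : Subgroup ↥Nn).map Nn.subtype) := Q₀.isPGroup'.map _
  have hidx : ((Q₀ : Subgroup ↥Nn).map Nn.subtype).index = (Q₀ : Subgroup ↥Nn).index * Nn.index :=
    Subgroup.index_map_subtype _
  have hnd : ¬2 ∣ ((Q₀ : Subgroup ↥Nn).map Nn.subtype).index := by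
    rw [hidx]
    exact fun h => (Nat.prime_two.dvd_mul.1 h).elim Q₀.not_dvd_index hodd
  obtain ⟨Q₁, hQ₁⟩ := hQ₀.exists_le_sylow
  have hle : (Q₁ : Subgroup G) ≤ (Q₀ : Subgroup ↥Nn).map Nn.subtype := by
    have hcop := Nat.Coprime.pow_left (n := 2) ((Nat.Prime.coprime_iff_not_dvd Nat.prime_two).2 hnd)
    by_contra hne
    have h2 : ((Q₀ : Subgroup ↥Nn).map Nn.subtype).relIndex Q₁ ≠ 1 := fun h => hne (Subgroup.relIndex_eq_one.1 h)
    obtain ⟨k, hk⟩ := IsPGroup.iff_card.1 Q₁.isPGroup'
    obtain ⟨j, -, hj⟩ := (Nat.dvd_prime_pow Nat.prime_two).1 (hk ▸ Subgroup.relIndex_dvd_card _ (Q₁ : Subgroup G))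
    cases j with
    | zero => exact h2 hj
    | succ j =>
      refine hnd ((dvd_mul_left 2 (2 ^ j)).trans ?_)
      rw [← pow_succ, ← hj]
      exact (Dvd.intro _ (Subgroup.relIndex_mul_index hQ₁))
  obtain ⟨g, hg⟩ := MulAction.exists_smul_eq G Q Q₁
  refine ⟨g, fun p hp => Subgroup.map_subtype_le (Q₀ : Subgroup ↥Nn) (hle ?_)⟩
  rw [← hg, Sylow.coe_subgroup_smul]
  exact Subgroup.smul_mem_pointwise_smul p (MulAut.conj g) Q (hQ hp)

/-- The count in the image. -/
theorem count_lt {A : Type u} [Group A] [Finite A] (hcomm : ∀ a b : A, a * b = b * a)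
    (φ : A →* ↥(alternatingGroup (Fin 8))) (h2 : IsPGroup 2 A) (hsq : Nat.card {a : A // a * a = 1} ≤ 4) :
    Nat.card ↥φ.range ≤ 8 := by
  let s : A →* A :=
    { toFun := fun a => a * a
      map_one' := mul_one 1
      map_mul' := fun a b => by
        show a * b * (a * b) = a * a * (b * b)
        rw [mul_assoc, ← mul_assoc b a b, ← hcomm a b, mul_assoc a b b, ← mul_assoc, ← mul_assoc] }
  have hker : Nat.card ↥s.ker ≤ 4 := hsq
  have hidx : s.range.index ≤ 4 := by
    have h1 : s.range.index * Nat.card ↥s.range = Nat.card ↥s.ker * Nat.card ↥s.range := by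
      rw [Subgroup.index_mul_card, ← Subgroup.index_ker, Subgroup.card_mul_index]
    rw [Nat.eq_of_mul_eq_mul_right Nat.card_pos h1]
    exact hker
  have hind : (s.range.map φ.rangeRestrict).index ≤ 4 :=
    (Nat.le_of_dvd (Nat.pos_of_ne_zero Subgroup.index_ne_zero_of_finite)
      (Subgroup.index_map_dvd _ φ.rangeRestrict_surjective)).trans hidx
  have h4 : ∀ a : A, ((φ a : ↥(alternatingGroup (Fin 8))) : Perm (Fin 8)) ^ 4 = 1 := fun a => by
    obtain ⟨n, hn⟩ := h2 a
    exact pow_four (Perm.mem_alternatingGroup.1 (φ a).2)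
      (n := n) (by rw [← Subgroup.coe_pow, ← map_pow, hn, map_one, Subgroup.coe_one])
  have hle2 : Nat.card ↥(s.range.map φ.rangeRestrict) ≤ 2 := by
    rw [Nat.card_congr (Subgroup.equivMapOfInjective (s.range.map φ.rangeRestrict) φ.range.subtype
      φ.range.subtype_injective).toEquiv, Subgroup.map_map, MonoidHom.subtype_comp_rangeRestrict]
    by_cases hall : ∀ a, φ (s a) = 1
    · refine le_trans (le_of_eq ?_) one_le_two
      rw [Subgroup.card_eq_one, eq_bot_iff]
      rintro _ ⟨_, ⟨a, rfl⟩, rfl⟩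
      exact Subgroup.mem_bot.2 (hall a)
    · push Not at hall
      obtain ⟨c, hc⟩ := hall
      refine le_trans (Set.ncard_le_ncard (t := ({1, φ (s c)} : Set _)) ?_ (Set.toFinite _)) ((Set.ncard_insert_le _ _).trans (by simp))
      rintro _ ⟨_, ⟨a, rfl⟩, rfl⟩
      by_cases ha : φ (s a) = 1
      · exact Or.inl ha
      refine Or.inr (Subtype.ext ?_)
      have e : ∀ x, ((φ (s x) : ↥(alternatingGroup (Fin 8))) : Perm (Fin 8)) = φ x * φ x := fun x => by
        show ((φ (x * x) : ↥(alternatingGroup (Fin 8))) : Perm (Fin 8)) = _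
        rw [map_mul, Subgroup.coe_mul]
      show ((φ (s a) : ↥(alternatingGroup (Fin 8))) : Perm (Fin 8)) = φ (s c)
      rw [e, e]
      refine pairs (Perm.mem_alternatingGroup.1 (φ a).2) (Perm.mem_alternatingGroup.1 (φ c).2) (h4 a) ?_
        (fun h => ha (Subtype.ext ((e a).trans h))) (fun h => hc (Subtype.ext ((e c).trans h)))
      rw [← Subgroup.coe_mul, ← Subgroup.coe_mul, ← map_mul, ← map_mul, hcomm]
  rw [← Subgroup.card_mul_index (s.range.map φ.rangeRestrict)]
  calc Nat.card ↥(s.range.map φ.rangeRestrict) * (s.range.map φ.rangeRestrict).index ≤ 2 * 4 :=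
      Nat.mul_le_mul hle2 hind
    _ = 8 := rfl

/-- No section is the alternating group of degree eight. -/
theorem no_alt_eight {Nn T : Subgroup G} (hnorm : ∀ n ∈ Nn, ∀ t ∈ T, n * t * n⁻¹ ∈ T)
    (hcomm : ∀ a ∈ T, ∀ b ∈ T, a * b = b * a) (hrk : Nat.card {t : ↥T // t * t = 1} ≤ 4)
    (hodd : ¬2 ∣ Nn.index) (h8 : ¬8 ∣ T.relIndex Nn)
    {X : Subgroup G} (f : ↥X →* ↥(alternatingGroup (Fin 8))) : ¬Function.Surjective f := by
  intro hf
  classical
  haveI : Fact (Nat.Prime 2) := ⟨Nat.prime_two⟩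
  haveI : (T.subgroupOf Nn).Normal := ⟨fun t ht n => hnorm n n.2 t ht⟩
  obtain ⟨P⟩ : Nonempty (Sylow 2 ↥X) := inferInstance
  obtain ⟨g, hg⟩ := exists_conj_le (P := (P : Subgroup ↥X).map X.subtype) (P.isPGroup'.map _) hodd
  let ψ : ↥(P : Subgroup ↥X) →* ↥Nn :=
    ((MulAut.conj g).toMonoidHom.comp (X.subtype.comp (P : Subgroup ↥X).subtype)).codRestrict Nn
      fun p => hg _ ⟨p, p.2, rfl⟩
  have hψ : Function.Injective ψ := fun a b h => by
    have := (MulAut.conj g).injective (congrArg Subtype.val h)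
    exact Subtype.ext (Subtype.ext this)
  let A : Subgroup ↥(P : Subgroup ↥X) := (T.subgroupOf Nn).comap ψ
  have hA : A.index ∣ 4 := by
    have h1 : A.index ∣ T.relIndex Nn := by
      rw [Subgroup.index_comap]
      exact Subgroup.relIndex_dvd_index_of_normal _ _
    have h2 : A.index ∣ Nat.card ↥(P : Subgroup ↥X) := Subgroup.index_dvd_card A
    obtain ⟨k, hk⟩ := IsPGroup.iff_card.1 P.isPGroup'
    obtain ⟨i, -, hi⟩ := (Nat.dvd_prime_pow Nat.prime_two).1 (hk ▸ h2)
    rw [hi] at h1 ⊢
    have : i ≤ 2 := by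
      by_contra hgt
      exact h8 ((Nat.pow_dvd_pow 2 (by omega : 3 ≤ i)).trans h1)
    exact Nat.pow_dvd_pow 2 this
  let h : ↥(P : Subgroup ↥X) →* ↥(alternatingGroup (Fin 8)) := f.comp (P : Subgroup ↥X).subtype
  have hR : h.range.index = 315 := by
    have hc : Nat.card ↥(alternatingGroup (Fin 8)) = 20160 := by
      rw [Nat.card_eq_fintype_card]
      have := two_mul_card_alternatingGroup (α := Fin 8)
      rw [Fintype.card_perm, Fintype.card_fin] at this
      simp only [Nat.factorial] at this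
      omega
    have hr : h.range = (P.mapSurjective hf : Subgroup ↥(alternatingGroup (Fin 8))) := by
      rw [Sylow.coe_mapSurjective, MonoidHom.range_comp, Subgroup.range_subtype]
    have hcard : Nat.card ↥h.range = 64 := by
      rw [hr, Sylow.card_eq_multiplicity, hc, show (20160 : ℕ) = 2 ^ 6 * 315 from rfl,
        Nat.factorization_mul (by norm_num) (by norm_num), Nat.prime_two.factorization_pow,
        Finsupp.add_apply, Finsupp.single_eq_same, Nat.factorization_eq_zero_of_not_dvd (by norm_num)]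
      rfl
    have := Subgroup.card_mul_index h.range
    rw [hcard, hc] at this
    omega
  let φ := h.comp A.subtype
  have hbig : 16 ≤ Nat.card ↥φ.range := by
    have h1 : φ.range = A.map h := by rw [MonoidHom.range_comp, Subgroup.range_subtype]
    have h2 := Subgroup.card_mul_index (A.map h)
    rw [Subgroup.index_map, hR] at h2
    have h3 : (A ⊔ h.ker).index ∣ 4 := (Subgroup.index_dvd_of_le le_sup_left).trans hA
    have h4 : (A ⊔ h.ker).index ≤ 4 := Nat.le_of_dvd (by norm_num) h3
    rw [show Nat.card ↥(alternatingGroup (Fin 8)) = Nat.card ↥h.range * h.range.index from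
      (Subgroup.card_mul_index _).symm] at h2
    have hcard : Nat.card ↥h.range * 315 = 20160 := by
      have := Subgroup.card_mul_index h.range
      rw [hR] at this
      rw [this, Nat.card_eq_fintype_card]
      have := two_mul_card_alternatingGroup (α := Fin 8)
      rw [Fintype.card_perm, Fintype.card_fin] at this
      simp only [Nat.factorial] at this
      omega
    rw [hR] at h2
    rw [h1]
    nlinarith [h2, hcard, h4]
  have hmemT : ∀ a : ↥A, ((ψ a : ↥Nn) : G) ∈ T := fun a => a.2
  have hAcomm : ∀ a b : ↥A, a * b = b * a := fun a b => by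
    refine Subtype.ext (hψ (Subtype.ext ?_))
    simp only [Subgroup.coe_mul, map_mul]
    exact hcomm _ (hmemT a) _ (hmemT b)
  have hsq : Nat.card {a : ↥A // a * a = 1} ≤ 4 := by
    refine le_trans (Nat.card_le_card_of_injective
      (fun a => (⟨⟨_, hmemT a.1⟩, Subtype.ext ?_⟩ : {t : ↥T // t * t = 1})) ?_) hrk
    · have := congrArg (fun x : ↥A => ((ψ x : ↥Nn) : G)) a.2
      simpa using this
    · intro a b hab
      exact Subtype.ext (Subtype.ext (hψ (Subtype.ext (congrArg (fun x => ((x.1 : ↥T) : G)) hab))))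
  have := count_lt (A := ↥A) hAcomm φ (P.isPGroup'.to_subgroup A) hsq
  omega

end Cfsg.Lib.Known.AltSections
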