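import Mathlib

/-!
# Data in the alternating group of degree twelve
-/

set_option autoImplicit false
set_option maxRecDepth 10000

namespace Cfsg.Lib.Known.AltSections

/-- Commuting cycles of lengths five and seven and an even permutation moving them to the second and third power. -/
theorem twelve_data : ∃ x z y : ↥(alternatingGroup (Fin 12)), orderOf x = 5 ∧ orderOf z = 7 ∧ x * z = z * x ∧
    y * x * y⁻¹ = x ^ 2 ∧ y * z * y⁻¹ = z ^ 3 := by
  refine ⟨⟨c[(0 : Fin 12), 1, 2, 3, 4], Equiv.Perm.mem_alternatingGroup.2 (by decide +kernel)⟩,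
    ⟨c[(5 : Fin 12), 6, 7, 8, 9, 10, 11], Equiv.Perm.mem_alternatingGroup.2 (by decide +kernel)⟩,
    ⟨c[(1 : Fin 12), 2, 4, 3] * c[(6 : Fin 12), 8, 7, 11, 9, 10], Equiv.Perm.mem_alternatingGroup.2 (by decide +kernel)⟩,
    ?_, ?_, ?_, ?_, ?_⟩
  · haveI : Fact (Nat.Prime 5) := ⟨by norm_num⟩
    exact orderOf_eq_prime (by decide +kernel) (by decide +kernel)
  · haveI : Fact (Nat.Prime 7) := ⟨by norm_num⟩
    exact orderOf_eq_prime (by decide +kernel) (by decide +kernel)
  · decide +kernel
  · decide +kernel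
  · decide +kernel

end Cfsg.Lib.Known.AltSections
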