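import Cfsg.Agent.Known.AltSections.Fusion

/-!
# Sections excluded by automizers in an abelian subgroup of odd index

If every element normalising an `l`-subgroup of `T` acts on it with order dividing `M`, then in a section an element
of order `l` is only moved to powers `k` with `k ^ M = 1` modulo `l`.
-/

set_option autoImplicit false

namespace Cfsg.Lib.Known.AltSections

open scoped Pointwise

universe u v

variable {G : Type u} [Group G] [Finite G] {A : Type v} [Group A]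

/-- The automizer criterion. -/
theorem no_section {l : ℕ} [Fact l.Prime] {T : Subgroup G} (hT : ¬ l ∣ T.index) {M : ℕ}
    (hfus : ∀ Q : Subgroup G, Q ≤ T → IsPGroup l Q → ∀ g : G, (∀ s ∈ Q, g * s * g⁻¹ ∈ Q) →
      ∀ s ∈ Q, g ^ M * s * (g ^ M)⁻¹ = s)
    {X : Subgroup G} (f : ↥X →* A) (hf : Function.Surjective f) {x y : A} {k : ℕ} (hx : orderOf x = l)
    (hxy : y * x * y⁻¹ = x ^ k) (hk : k ^ M % l ≠ 1) : False := by
  classical
  have hl : l.Prime := Fact.out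
  set R : Subgroup ↥X := (Subgroup.zpowers x).comap f with hR
  obtain ⟨P0⟩ : Nonempty (Sylow l ↥R) := inferInstance
  obtain ⟨g0, hg0⟩ := hf y
  have hRn : ∀ r ∈ R, g0 * r * g0⁻¹ ∈ R := by
    intro r hr
    obtain ⟨j, hj⟩ := Subgroup.mem_zpowers_iff.1 (Subgroup.mem_comap.1 hr)
    refine Subgroup.mem_comap.2 (Subgroup.mem_zpowers_iff.2 ⟨k * j, ?_⟩)
    rw [map_mul, map_mul, map_inv, hg0, ← hj, ← conj_zpow, hxy, ← zpow_natCast, ← zpow_mul]
  -- a normalising lift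
  let c0 : ↥R →* ↥R := MonoidHom.mk' (fun r => ⟨g0 * r * g0⁻¹, hRn r r.2⟩) fun a b => Subtype.ext (by
    show g0 * ((a : ↥X) * b) * g0⁻¹ = (g0 * a * g0⁻¹) * (g0 * b * g0⁻¹)
    group)
  have hc0 : Function.Surjective c0 := Finite.injective_iff_surjective.1 fun a b e =>
    Subtype.ext (by simpa [c0] using congrArg Subtype.val e)
  obtain ⟨r, hr⟩ := MulAction.exists_smul_eq ↥R (P0.mapSurjective hc0) P0
  set g : ↥X := (r : ↥X) * g0 with hg
  have hgP : ∀ s ∈ (P0 : Subgroup ↥R), ∃ s' ∈ (P0 : Subgroup ↥R), g * (s : ↥X) * g⁻¹ = (s' : ↥X) := by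
    intro s hs
    refine ⟨r * c0 s * r⁻¹, ?_, by simp [c0, hg, mul_assoc]⟩
    rw [← hr, Sylow.coe_subgroup_smul]
    refine ⟨c0 s, ?_, by simp [MulAut.smul_def]⟩
    exact ⟨s, hs, rfl⟩
  -- some element of the Sylow subgroup maps to a nontrivial power of `x`
  let φ : ↥R →* ↥(Subgroup.zpowers x) := f.subgroupComap (Subgroup.zpowers x)
  have hφ : Function.Surjective φ := MonoidHom.subgroupComap_surjective_of_surjective f (Subgroup.zpowers x) hf
  obtain ⟨s0, hs0, hsx⟩ : ∃ s ∈ (P0 : Subgroup ↥R), f (s : ↥X) = x := by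
    haveI : Finite ↥(Subgroup.zpowers x) := Nat.finite_of_card_ne_zero (by rw [Nat.card_zpowers, hx]; exact hl.ne_zero)
    have htop : ((P0.mapSurjective hφ : Sylow l ↥(Subgroup.zpowers x)) : Subgroup ↥(Subgroup.zpowers x)) = ⊤ := by
      refine Subgroup.eq_top_of_card_eq _ ?_
      show Nat.card (P0.mapSurjective hφ) = _
      rw [Sylow.card_eq_multiplicity, Nat.card_zpowers, hx, hl.factorization_self, pow_one]
    have hm : (⟨x, Subgroup.mem_zpowers x⟩ : ↥(Subgroup.zpowers x)) ∈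
        ((P0.mapSurjective hφ : Sylow l ↥(Subgroup.zpowers x)) : Subgroup ↥(Subgroup.zpowers x)) := by
      rw [htop]; trivial
    obtain ⟨s, hs, e⟩ := hm
    exact ⟨s, hs, congrArg Subtype.val e⟩
  -- carry the subgroup into `T`
  set P1 : Subgroup G := ((P0 : Subgroup ↥R).map R.subtype).map X.subtype with hP1
  have hP1p : IsPGroup l P1 := (P0.isPGroup'.map _).map _
  obtain ⟨W, hW⟩ : ∃ W : Sylow l G, (W : Subgroup G) ≤ T := by
    obtain ⟨W0⟩ : Nonempty (Sylow l T) := inferInstance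
    refine ⟨(W0.isPGroup'.map T.subtype).toSylow ?_, Subgroup.map_subtype_le _⟩
    rw [Subgroup.index_map_subtype]
    intro h
    rcases hl.dvd_mul.1 h with h | h
    · exact W0.not_dvd_index h
    · exact hT h
  obtain ⟨W', hW'⟩ := hP1p.exists_le_sylow
  obtain ⟨c, hc⟩ := MulAction.exists_smul_eq G W' W
  set Q : Subgroup G := P1.map (MulAut.conj c).toMonoidHom with hQ
  have hQT : Q ≤ T := by
    rintro _ ⟨s, hs, rfl⟩
    refine hW ?_
    rw [← hc, Sylow.coe_subgroup_smul]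
    exact ⟨s, hW' hs, by simp [MulAut.smul_def]⟩
  have hQg : ∀ s ∈ Q, c * (g : G) * c⁻¹ * s * (c * (g : G) * c⁻¹)⁻¹ ∈ Q := by
    rintro _ ⟨_, ⟨_, ⟨t, ht, rfl⟩, rfl⟩, rfl⟩
    obtain ⟨t', ht', e⟩ := hgP t ht
    refine ⟨((t' : ↥X) : G), ⟨_, ⟨t', ht', rfl⟩, rfl⟩, ?_⟩
    rw [← e]
    simp only [MulEquiv.coe_toMonoidHom, MulAut.conj_apply, Subgroup.coe_mul, Subgroup.coe_inv,
      Subgroup.coe_subtype]
    group
  have hmem : c * ((s0 : ↥X) : G) * c⁻¹ ∈ Q := ⟨_, ⟨_, ⟨s0, hs0, rfl⟩, rfl⟩, by simp⟩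
  have h1 := hfus Q hQT (hP1p.map _) _ hQg _ hmem
  rw [conj_pow] at h1
  have h2 : g ^ M * (s0 : ↥X) * (g ^ M)⁻¹ = (s0 : ↥X) := by
    refine Subtype.ext ?_
    simp only [Subgroup.coe_mul, Subgroup.coe_inv, SubgroupClass.coe_pow]
    have := congrArg (fun z => c⁻¹ * z * c) h1
    simp only [mul_inv_rev, inv_inv, mul_assoc, inv_mul_cancel_left, inv_mul_cancel, mul_one] at this
    simpa [mul_assoc] using this
  have h3 := congrArg f h2
  rw [map_mul, map_mul, map_inv, map_pow, hsx] at h3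
  obtain ⟨j, hj⟩ := Subgroup.mem_zpowers_iff.1 (Subgroup.mem_comap.1 r.2)
  have hgx : ∀ i : ℕ, f g * x ^ i * (f g)⁻¹ = x ^ (k * i) := fun i => by
    rw [hg, map_mul, hg0, ← hj]
    calc x ^ j * y * x ^ i * (x ^ j * y)⁻¹ = x ^ j * (y * x * y⁻¹) ^ i * (x ^ j)⁻¹ := by rw [conj_pow]; group
      _ = x ^ (k * i) := by rw [hxy, ← pow_mul, mul_inv_eq_iff_eq_mul]; exact ((Commute.refl x).zpow_left j).pow_right _ |>.eq
  have hpow : ∀ n : ℕ, f g ^ n * x * (f g ^ n)⁻¹ = x ^ (k ^ n) := by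
    intro n
    induction n with
    | zero => simp
    | succ n ih =>
      rw [pow_succ', show f g * f g ^ n * x * (f g * f g ^ n)⁻¹ = f g * (f g ^ n * x * (f g ^ n)⁻¹) * (f g)⁻¹ by group,
        ih, hgx, ← pow_succ']
  rw [hpow] at h3
  have h4 : x ^ k ^ M = x ^ 1 := by rw [h3, pow_one]
  rw [pow_eq_pow_iff_modEq, hx] at h4
  exact hk (Eq.trans h4 (Nat.mod_eq_of_lt hl.one_lt))

/-- The same, the automizers coming from a split Tits system. -/
theorem no_section_split {P : Cfsg.BNPair G} {U : Subgroup G} {p : ℕ} (S : Cfsg.Lib.Steinberg.Split P U p)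
    {l : ℕ} [Fact l.Prime] (hlp : l ≠ p) (hidx : ¬ l ∣ (P.B ⊓ P.N).index)
    (hcomm : ∀ a ∈ P.B ⊓ P.N, ∀ b ∈ P.B ⊓ P.N, a * b = b * a) {M : ℕ} (hM : ∀ n ∈ P.N, n ^ M ∈ P.B ⊓ P.N)
    {X : Subgroup G} (f : ↥X →* A) (hf : Function.Surjective f) {x y : A} {k : ℕ} (hx : orderOf x = l)
    (hxy : y * x * y⁻¹ = x ^ k) (hk : k ^ M % l ≠ 1) : False := by
  refine no_section hidx (fun Q hQ hQp g hg s hs => ?_) f hf hx hxy hk
  obtain ⟨n, hn, hact⟩ := torus_fusion S hlp hQ hQp hg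
  have hiter : ∀ (i : ℕ), ∀ t ∈ Q, g ^ i * t * (g ^ i)⁻¹ ∈ Q ∧ g ^ i * t * (g ^ i)⁻¹ = n ^ i * t * (n ^ i)⁻¹ := by
    intro i
    induction i with
    | zero => intro t ht; simpa using ht
    | succ i ih =>
      intro t ht
      obtain ⟨h1, h2⟩ := ih t ht
      rw [pow_succ', pow_succ', show g * g ^ i * t * (g * g ^ i)⁻¹ = g * (g ^ i * t * (g ^ i)⁻¹) * g⁻¹ by group,
        show n * n ^ i * t * (n * n ^ i)⁻¹ = n * (n ^ i * t * (n ^ i)⁻¹) * n⁻¹ by group, ← h2]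
      exact ⟨hg _ h1, hact _ h1⟩
  rw [(hiter M s hs).2, hcomm _ (hM n hn) _ (hQ hs), mul_inv_cancel_right]

end Cfsg.Lib.Known.AltSections
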