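import Mathlib

/-!
# Sections excluded by automizers of two primes in an abelian subgroup

If `T` contains Sylow subgroups for two primes `a`, `b` and the elements normalising a subgroup of `T` act on it as
elements of `Nn`, then commuting elements of orders `a`, `b` of a section, moved to powers by one element, are moved
as some element of `Nn` moves `T`.
-/

set_option autoImplicit false
set_option linter.style.haveILetI false

namespace Cfsg.Lib.Known.AltSections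

open scoped Pointwise

universe u v

variable {G : Type u} [Group G] [Finite G]

/-- A lift of prime power order. -/
theorem exists_lift_pGroup {A : Type v} [Group A] (f : G →* A) {h : G} {x : A} (hh : f h = x) {l : ℕ}
    [Fact l.Prime] (hx : orderOf x = l) : ∃ k : ℕ, f (h ^ k) = x ∧ IsPGroup l ↥(Subgroup.zpowers (h ^ k)) := by
  have hl : l.Prime := Fact.out
  obtain ⟨e, d, hd, hed⟩ := Nat.exists_eq_pow_mul_and_not_dvd (orderOf_pos h).ne' l hl.ne_one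
  obtain ⟨u, hu⟩ := Nat.exists_mul_mod_eq_one_of_coprime (hl.coprime_iff_not_dvd.2 hd).symm hl.one_lt
  refine ⟨d * u, ?_, ?_⟩
  · rw [map_pow, hh, ← pow_mod_orderOf, hx, hu.2, pow_one]
  · refine fun s => ⟨e, Subtype.ext ?_⟩
    obtain ⟨j, hj⟩ := Subgroup.mem_zpowers_iff.1 s.2
    rw [SubgroupClass.coe_pow, ← hj, ← zpow_natCast, ← zpow_mul, mul_comm j, zpow_mul, zpow_natCast, ← pow_mul,
      show d * u * l ^ e = l ^ e * d * u by ring, ← hed, pow_mul, pow_orderOf_eq_one, one_pow, one_zpow,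
      Subgroup.coe_one]

/-- Frattini: a normalising element is adjusted to normalise a Sylow subgroup. -/
theorem exists_adjust {l : ℕ} [Fact l.Prime] {R : Subgroup G} (P : Sylow l ↥R) {g0 : G}
    (hg0 : ∀ r ∈ R, g0 * r * g0⁻¹ ∈ R) :
    ∃ r ∈ R, ∀ s ∈ (P : Subgroup ↥R).map R.subtype, r * g0 * s * (r * g0)⁻¹ ∈ (P : Subgroup ↥R).map R.subtype := by
  let c0 : ↥R →* ↥R := MonoidHom.mk' (fun r => ⟨g0 * r * g0⁻¹, hg0 r r.2⟩) fun a b => Subtype.ext (by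
    show g0 * ((a : G) * b) * g0⁻¹ = (g0 * a * g0⁻¹) * (g0 * b * g0⁻¹)
    group)
  have hc0 : Function.Surjective c0 := Finite.injective_iff_surjective.1 fun a b e =>
    Subtype.ext (by simpa [c0] using congrArg Subtype.val e)
  obtain ⟨r, hr⟩ := MulAction.exists_smul_eq ↥R (P.mapSurjective hc0) P
  refine ⟨r, r.2, ?_⟩
  rintro _ ⟨s, hs, rfl⟩
  refine ⟨r * c0 s * r⁻¹, ?_, by simp [c0, mul_assoc]⟩
  rw [← hr, Sylow.coe_subgroup_smul]
  exact ⟨c0 s, ⟨s, hs, rfl⟩, by simp [MulAut.smul_def]⟩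

/-- An `l`-subgroup is conjugated into a subgroup of index prime to `l`. -/
theorem exists_conj_into {l : ℕ} [Fact l.Prime] {T C : Subgroup G} (hT : ¬ l ∣ T.relIndex C)
    {Q : Subgroup G} (hQC : Q ≤ C) (hQ : IsPGroup l ↥Q) : ∃ c ∈ C, ∀ s ∈ Q, c * s * c⁻¹ ∈ T := by
  obtain ⟨W, hW⟩ : ∃ W : Sylow l ↥C, (W : Subgroup ↥C) ≤ T.subgroupOf C := by
    obtain ⟨W0⟩ : Nonempty (Sylow l ↥(T.subgroupOf C)) := inferInstance
    refine ⟨(W0.isPGroup'.map (T.subgroupOf C).subtype).toSylow ?_, Subgroup.map_subtype_le _⟩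
    rw [Subgroup.index_map_subtype]
    intro h
    rcases (Fact.out : l.Prime).dvd_mul.1 h with h | h
    · exact W0.not_dvd_index h
    · exact hT h
  obtain ⟨W', hW'⟩ := (hQ.comap_subtype (K := C)).exists_le_sylow
  obtain ⟨c, hc⟩ := MulAction.exists_smul_eq ↥C W' W
  refine ⟨c, c.2, fun s hs => ?_⟩
  have h1 : c * ⟨s, hQC hs⟩ * c⁻¹ ∈ (W : Subgroup ↥C) := by
    rw [← hc, Sylow.coe_subgroup_smul]
    exact ⟨⟨s, hQC hs⟩, hW' (Subgroup.mem_subgroupOf.2 hs), by simp [MulAut.smul_def]⟩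
  simpa using Subgroup.mem_subgroupOf.1 (hW h1)

/-- The two-prime criterion. -/
theorem exists_automizer {A : Type v} [Group A] {T : Subgroup G} {a b : ℕ} [Fact a.Prime] [Fact b.Prime]
    (hab : a ≠ b)
    (hTa : ¬ a ∣ T.index) (hTb : ¬ b ∣ T.index) (hcomm : ∀ s ∈ T, ∀ t ∈ T, s * t = t * s)
    {Nn : Set G} {M : ℕ} (hMb : M.Coprime b) (hM : ∀ n ∈ Nn, ∀ t ∈ T, n ^ M * t * (n ^ M)⁻¹ = t)
    (hfus : ∀ Q : Subgroup G, Q ≤ T → ∀ g : G, (∀ s ∈ Q, g * s * g⁻¹ ∈ Q) →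
      ∃ n ∈ Nn, ∀ s ∈ Q, g * s * g⁻¹ = n * s * n⁻¹)
    {X : Subgroup G} (f : ↥X →* A) (hf : Function.Surjective f) {x z y : A} {i j : ℕ}
    (hx : orderOf x = a) (hz : orderOf z = b) (hxz : x * z = z * x)
    (hyx : y * x * y⁻¹ = x ^ i) (hyz : y * z * y⁻¹ = z ^ j) :
    ∃ n ∈ Nn, ∀ (m : ℕ) (e : ℤ), (∀ t ∈ T, n ^ m * t * (n ^ m)⁻¹ = t ^ e) →
      x ^ i ^ m = x ^ e ∧ z ^ j ^ m = z ^ e := by
  -- the first Sylow subgroup and the lifts normalising it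
  set R5 : Subgroup ↥X := (Subgroup.zpowers x).comap f with hR5
  obtain ⟨h0, hh0⟩ := hf x
  obtain ⟨k, hk, hkp⟩ := exists_lift_pGroup f hh0 hx
  set h5 : ↥X := h0 ^ k
  have h5R : h5 ∈ R5 := Subgroup.mem_comap.2 (hk ▸ Subgroup.mem_zpowers x)
  obtain ⟨P5, hP5⟩ := (hkp.comap_subtype (K := R5)).exists_le_sylow
  set S5 : Subgroup ↥X := (P5 : Subgroup ↥R5).map R5.subtype with hS5
  have h5S : h5 ∈ S5 := ⟨⟨h5, h5R⟩, hP5 (Subgroup.mem_subgroupOf.2 (Subgroup.mem_zpowers _)), rfl⟩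
  have hR5n : ∀ (w : A) (d : ℕ), w * x * w⁻¹ = x ^ d → ∀ g : ↥X, f g = w → ∀ r ∈ R5, g * r * g⁻¹ ∈ R5 := by
    intro w d hw g hg r hr
    obtain ⟨q, hq⟩ := Subgroup.mem_zpowers_iff.1 (Subgroup.mem_comap.1 hr)
    refine Subgroup.mem_comap.2 (Subgroup.mem_zpowers_iff.2 ⟨d * q, ?_⟩)
    rw [map_mul, map_mul, map_inv, hg, ← hq, ← conj_zpow, hw, ← zpow_natCast, ← zpow_mul]
  obtain ⟨z0, hz0⟩ := hf z
  obtain ⟨y0, hy0⟩ := hf y
  obtain ⟨rz, hrz, hzS⟩ := exists_adjust P5 (hR5n z 1 (by rw [← hxz, mul_inv_cancel_right, pow_one]) z0 hz0)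
  obtain ⟨ry, hry, hyS⟩ := exists_adjust P5 (hR5n y i hyx y0 hy0)
  -- the abelian group generated by the two elements
  set A0 : Subgroup A := Subgroup.zpowers x ⊔ Subgroup.zpowers z with hA0
  have hxA : x ∈ A0 := Subgroup.mem_sup_left (Subgroup.mem_zpowers x)
  have hzA : z ∈ A0 := Subgroup.mem_sup_right (Subgroup.mem_zpowers z)
  have hcx : ∀ w ∈ A0, w * x * w⁻¹ = x := fun w hw => by
    have : A0 ≤ Subgroup.centralizer {x} := sup_le
      (Subgroup.zpowers_le.2 (Subgroup.mem_centralizer_singleton_iff.2 rfl))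
      (Subgroup.zpowers_le.2 (Subgroup.mem_centralizer_singleton_iff.2 hxz.symm))
    rw [Subgroup.mem_centralizer_singleton_iff.1 (this hw), mul_inv_cancel_right]
  have hcz : ∀ w ∈ A0, w * z * w⁻¹ = z := fun w hw => by
    have : A0 ≤ Subgroup.centralizer {z} := sup_le
      (Subgroup.zpowers_le.2 (Subgroup.mem_centralizer_singleton_iff.2 hxz))
      (Subgroup.zpowers_le.2 (Subgroup.mem_centralizer_singleton_iff.2 rfl))
    rw [Subgroup.mem_centralizer_singleton_iff.1 (this hw), mul_inv_cancel_right]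
  have hA0n : ∀ w : A, w * x * w⁻¹ = x ^ i → w * z * w⁻¹ = z ^ j → ∀ v ∈ A0, w * v * w⁻¹ ∈ A0 := by
    intro w h1 h2 v hv
    have : A0 ≤ A0.comap (MulAut.conj w).toMonoidHom := sup_le
      (Subgroup.zpowers_le.2 (Subgroup.mem_comap.2 (show w * x * w⁻¹ ∈ A0 from h1 ▸ A0.pow_mem hxA i)))
      (Subgroup.zpowers_le.2 (Subgroup.mem_comap.2 (show w * z * w⁻¹ ∈ A0 from h2 ▸ A0.pow_mem hzA j)))
    simpa using this hv
  -- the second Sylow subgroup
  set R7 : Subgroup ↥X := Subgroup.normalizer (S5 : Set ↥X) ⊓ A0.comap f with hR7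
  have hnormS : ∀ g : ↥X, (∀ s ∈ S5, g * s * g⁻¹ ∈ S5) → g ∈ Subgroup.normalizer (S5 : Set ↥X) := fun g hg =>
    Subgroup.mem_normalizer_iff.2 fun s => ⟨hg s, fun hs => by
      have hinj : Function.Injective fun s : S5 => (⟨g * s * g⁻¹, hg _ s.2⟩ : S5) := fun a b e =>
        Subtype.ext (by simpa using congrArg Subtype.val e)
      obtain ⟨t, ht⟩ := (Finite.injective_iff_surjective.1 hinj) ⟨_, hs⟩
      have := congrArg Subtype.val ht
      simp only [mul_left_inj, mul_right_inj] at this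
      exact this ▸ t.2⟩
  obtain ⟨q, hq⟩ := Subgroup.mem_zpowers_iff.1 (Subgroup.mem_comap.1 hrz)
  have hgz : rz * z0 ∈ R7 := ⟨hnormS _ hzS, Subgroup.mem_comap.2 (by
    rw [map_mul, hz0]; exact A0.mul_mem (Subgroup.mem_sup_left (Subgroup.mem_comap.1 hrz)) hzA)⟩
  have hfz : f ((rz * z0) ^ a) = z ^ a := by
    rw [map_pow, map_mul, hz0, ← hq, Commute.mul_pow (Commute.zpow_left hxz q), ← zpow_natCast, ← zpow_mul,
      mul_comm, zpow_mul, zpow_natCast, ← hx, pow_orderOf_eq_one, one_zpow, one_mul]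
  obtain ⟨hz7, hz7R, hfz7⟩ : ∃ h : ↥X, h ∈ R7 ∧ f h = z := by
    obtain ⟨u, hu⟩ := exists_pow_eq_self_of_coprime (show a.Coprime (orderOf z) from
      hz ▸ (Nat.coprime_primes Fact.out Fact.out).2 hab)
    exact ⟨((rz * z0) ^ a) ^ u, R7.pow_mem (R7.pow_mem hgz a) u, by rw [map_pow, hfz, hu]⟩
  obtain ⟨k7, hk7, hk7p⟩ := exists_lift_pGroup f hfz7 hz
  set h7 : ↥X := hz7 ^ k7
  have h7R : h7 ∈ R7 := R7.pow_mem hz7R k7
  obtain ⟨P7, hP7⟩ := (hk7p.comap_subtype (K := R7)).exists_le_sylow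
  set S7 : Subgroup ↥X := (P7 : Subgroup ↥R7).map R7.subtype with hS7
  have h7S : h7 ∈ S7 := ⟨⟨h7, h7R⟩, hP7 (Subgroup.mem_subgroupOf.2 (Subgroup.mem_zpowers _)), rfl⟩
  obtain ⟨q', hq'⟩ := Subgroup.mem_zpowers_iff.1 (Subgroup.mem_comap.1 hry)
  have hgx : f (ry * y0) * x * (f (ry * y0))⁻¹ = x ^ i := by
    rw [map_mul, hy0, show f ry * y * x * (f ry * y)⁻¹ = f ry * (y * x * y⁻¹) * (f ry)⁻¹ by group, hyx, ← conj_pow,
      hcx _ (Subgroup.mem_sup_left (Subgroup.mem_comap.1 hry))]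
  have hgz' : f (ry * y0) * z * (f (ry * y0))⁻¹ = z ^ j := by
    rw [map_mul, hy0, show f ry * y * z * (f ry * y)⁻¹ = f ry * (y * z * y⁻¹) * (f ry)⁻¹ by group, hyz, ← conj_pow,
      hcz _ (Subgroup.mem_sup_left (Subgroup.mem_comap.1 hry))]
  obtain ⟨r7, hr7, hS7n⟩ := exists_adjust P7 (g0 := ry * y0) fun r hr => by
    refine ⟨(Subgroup.normalizer (S5 : Set ↥X)).mul_mem ((Subgroup.normalizer (S5 : Set ↥X)).mul_mem
      (hnormS _ hyS) hr.1) ((Subgroup.normalizer (S5 : Set ↥X)).inv_mem (hnormS _ hyS)), Subgroup.mem_comap.2 ?_⟩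
    rw [map_mul, map_mul, map_inv]
    exact hA0n _ hgx hgz' _ (Subgroup.mem_comap.1 hr.2)
  set g : ↥X := r7 * (ry * y0) with hg
  have hgS5 : ∀ s ∈ S5, g * s * g⁻¹ ∈ S5 := fun s hs => by
    rw [show g * s * g⁻¹ = r7 * (ry * y0 * s * (ry * y0)⁻¹) * r7⁻¹ by rw [hg]; group]
    exact (Subgroup.mem_normalizer_iff.1 hr7.1 _).1 (hyS s hs)
  have hfx : f g * x * (f g)⁻¹ = x ^ i := by
    rw [hg, map_mul, show f r7 * f (ry * y0) * x * (f r7 * f (ry * y0))⁻¹ =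
      f r7 * (f (ry * y0) * x * (f (ry * y0))⁻¹) * (f r7)⁻¹ by group, hgx, ← conj_pow, hcx _ hr7.2]
  have hfz' : f g * z * (f g)⁻¹ = z ^ j := by
    rw [hg, map_mul, show f r7 * f (ry * y0) * z * (f r7 * f (ry * y0))⁻¹ =
      f r7 * (f (ry * y0) * z * (f (ry * y0))⁻¹) * (f r7)⁻¹ by group, hgz', ← conj_pow, hcz _ hr7.2]
  -- carry both subgroups into `T`
  set U5 : Subgroup G := S5.map X.subtype with hU5
  set U7 : Subgroup G := S7.map X.subtype with hU7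
  have hU5p : IsPGroup a ↥U5 := (P5.isPGroup'.map _).map _
  obtain ⟨c1, -, hc1⟩ := exists_conj_into (T := T) (C := ⊤) (by rwa [Subgroup.relIndex_top_right]) le_top hU5p
  set Q5 : Subgroup G := U5.map (MulAut.conj c1).toMonoidHom with hQ5
  set Q7 : Subgroup G := U7.map (MulAut.conj c1).toMonoidHom with hQ7
  have hQ5T : Q5 ≤ T := by rintro _ ⟨s, hs, rfl⟩; simpa using hc1 s hs
  have hQ7p : IsPGroup b ↥Q7 := ((P7.isPGroup'.map _).map _).map _
  have hiter : ∀ (Q : Subgroup G), Q ≤ T → ∀ g : G, (∀ s ∈ Q, g * s * g⁻¹ ∈ Q) → ∃ n ∈ Nn,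
      ∀ (m : ℕ), ∀ t ∈ Q, g ^ m * t * (g ^ m)⁻¹ = n ^ m * t * (n ^ m)⁻¹ := by
    intro Q hQ g hg
    obtain ⟨n, hn, hact⟩ := hfus Q hQ g hg
    refine ⟨n, hn, fun m => ?_⟩
    have : ∀ t ∈ Q, g ^ m * t * (g ^ m)⁻¹ ∈ Q ∧ g ^ m * t * (g ^ m)⁻¹ = n ^ m * t * (n ^ m)⁻¹ := by
      induction m with
      | zero => intro t ht; simpa using ht
      | succ m ih =>
        intro t ht
        obtain ⟨h1, h2⟩ := ih t ht
        rw [pow_succ', pow_succ', show g * g ^ m * t * (g * g ^ m)⁻¹ = g * (g ^ m * t * (g ^ m)⁻¹) * g⁻¹ by group,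
          show n * n ^ m * t * (n * n ^ m)⁻¹ = n * (n ^ m * t * (n ^ m)⁻¹) * n⁻¹ by group, ← h2]
        exact ⟨hg _ h1, hact _ h1⟩
    exact fun t ht => (this t ht).2
  have hQ7C : Q7 ≤ Subgroup.centralizer (Q5 : Set G) := by
    intro s hs
    have hsn : ∀ t ∈ Q5, s * t * s⁻¹ ∈ Q5 := by
      obtain ⟨_, ⟨v, hv, rfl⟩, rfl⟩ := hs
      rintro _ ⟨_, ⟨w, hw, rfl⟩, rfl⟩
      obtain ⟨v', -, rfl⟩ := hv
      exact ⟨_, ⟨(v' : ↥X) * w * (v' : ↥X)⁻¹, (Subgroup.mem_normalizer_iff.1 v'.2.1 _).1 hw, rfl⟩, by simp [mul_assoc]⟩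
    obtain ⟨n, hn, hact⟩ := hiter Q5 hQ5T s hsn
    obtain ⟨e, he⟩ := hQ7p ⟨s, hs⟩
    have hcop : M.Coprime (orderOf s) := (hMb.pow_right e).coprime_dvd_right
      (orderOf_dvd_of_pow_eq_one (congrArg Subtype.val he))
    obtain ⟨w, hw⟩ := exists_pow_eq_self_of_coprime hcop
    rw [Subgroup.mem_centralizer_iff]
    intro t ht
    have h1 : Commute (s ^ M) t := by
      have := (hact M t ht).trans (hM n hn t (hQ5T ht))
      exact mul_inv_eq_iff_eq_mul.1 this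
    have h2 := h1.pow_left w
    rw [hw] at h2
    exact h2.eq.symm
  have hTC : T ≤ Subgroup.centralizer (Q5 : Set G) := fun t ht =>
    Subgroup.mem_centralizer_iff.2 fun s hs => hcomm s (hQ5T hs) t ht
  obtain ⟨c2, hc2C, hc2⟩ := exists_conj_into (T := T) (C := Subgroup.centralizer (Q5 : Set G))
    (fun h => hTb (h.trans ⟨_, (Subgroup.relIndex_mul_index hTC).symm⟩)) hQ7C hQ7p
  set c : G := c2 * c1 with hc
  set Q : Subgroup G := (U5 ⊔ U7).map (MulAut.conj c).toMonoidHom with hQ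
  have hQT : Q ≤ T := by
    rw [hQ, Subgroup.map_sup]
    refine sup_le ?_ ?_
    · rintro _ ⟨s, hs, rfl⟩
      have h1 : c1 * s * c1⁻¹ ∈ Q5 := ⟨s, hs, by simp⟩
      have h2 := (Subgroup.mem_centralizer_iff.1 hc2C) _ h1
      rw [show (MulAut.conj c).toMonoidHom s = c2 * (c1 * s * c1⁻¹) * c2⁻¹ by simp [hc, mul_assoc], ← h2,
        mul_inv_cancel_right]
      exact hQ5T h1
    · rintro _ ⟨s, hs, rfl⟩
      rw [show (MulAut.conj c).toMonoidHom s = c2 * (c1 * s * c1⁻¹) * c2⁻¹ by simp [hc, mul_assoc]]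
      exact hc2 _ ⟨s, hs, by simp⟩
  have hgU : ∀ s ∈ U5 ⊔ U7, (g : G) * s * (g : G)⁻¹ ∈ U5 ⊔ U7 := by
    have : U5 ⊔ U7 ≤ (U5 ⊔ U7).comap (MulAut.conj (g : G)).toMonoidHom := by
      refine sup_le ?_ ?_
      · rintro _ ⟨s, hs, rfl⟩
        exact Subgroup.mem_sup_left ⟨g * s * g⁻¹, hgS5 s hs, by simp⟩
      · rintro _ ⟨s, hs, rfl⟩
        exact Subgroup.mem_sup_right ⟨g * s * g⁻¹, hS7n s hs, by simp⟩
    exact fun s hs => by simpa using this hs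
  have hQg : ∀ s ∈ Q, c * (g : G) * c⁻¹ * s * (c * (g : G) * c⁻¹)⁻¹ ∈ Q := by
    rintro _ ⟨s, hs, rfl⟩
    exact ⟨_, hgU s hs, by simp [mul_assoc]⟩
  have iter : ∀ (v : A) (d m : ℕ), f g * v * (f g)⁻¹ = v ^ d → f g ^ m * v * (f g ^ m)⁻¹ = v ^ d ^ m := by
    intro v d m hv
    induction m with
    | zero => simp
    | succ m ih =>
      rw [pow_succ', show f g * f g ^ m * v * (f g * f g ^ m)⁻¹ = f g * (f g ^ m * v * (f g ^ m)⁻¹) * (f g)⁻¹ by
        group, ih, ← conj_pow, hv, ← pow_mul, ← pow_succ']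
  obtain ⟨n, hn, hact⟩ := hiter Q hQT _ hQg
  refine ⟨n, hn, fun m e he => ?_⟩
  have main : ∀ (h : ↥X), (h : G) ∈ U5 ⊔ U7 → f g ^ m * f h * (f g ^ m)⁻¹ = f h ^ e := by
    intro h hh
    have hmem : c * (h : G) * c⁻¹ ∈ Q := ⟨_, hh, by simp⟩
    have h1 := (hact m _ hmem).trans (he _ (hQT hmem))
    rw [conj_pow, conj_zpow] at h1
    have h2 : g ^ m * h * (g ^ m)⁻¹ = h ^ e := by
      refine Subtype.ext ?_
      simp only [Subgroup.coe_mul, Subgroup.coe_inv, SubgroupClass.coe_pow, Subgroup.coe_zpow]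
      refine mul_left_cancel (a := c) (mul_right_cancel (b := c⁻¹) (Eq.trans ?_ h1))
      group
    rw [← map_pow, ← map_inv, ← map_mul, ← map_mul, h2, map_zpow]
  refine ⟨?_, ?_⟩
  · rw [← iter x i m hfx, ← hk]
    exact main h5 (Subgroup.mem_sup_left ⟨h5, h5S, rfl⟩)
  · rw [← iter z j m hfz', ← hk7]
    exact main h7 (Subgroup.mem_sup_right ⟨h7, h7S, rfl⟩)

end Cfsg.Lib.Known.AltSections
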