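import Cfsg.Agent.Known.AltSections.GTwo
import Cfsg.Agent.Chev.Tw.Inst

/-!
# Alternating sections of the triality twisted groups
-/

set_option autoImplicit false
set_option linter.style.haveILetI false
set_option linter.unusedSectionVars false

namespace Cfsg.Lib.Known.AltSections

open Cfsg.Lie Cfsg.Lib.Chev

universe u

variable {K : Type u} [Field K] [Fintype K]

/-- The torus data of the group. -/
theorem exists_tw_data (p : ℕ) [Fact p.Prime] [CharP K p] {q : ℕ} (hq : IsPrimePow q)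
    (hK : Fintype.card K = q ^ 3) :
    ∃ Z : TorusData D4.struct p (twistedD4 K q),
      (∀ n ∈ Z.P.N, n ^ 6 ∈ Z.P.B ⊓ Z.P.N) ∧
      (∀ n ∈ Z.P.N, ∀ t ∈ Z.P.B ⊓ Z.P.N, n * t * n⁻¹ ∈ Z.P.B ⊓ Z.P.N) ∧
      (Z.P.B ⊓ Z.P.N).relIndex Z.P.N = 12 ∧
      (Z.P.B ⊓ Z.P.N).index = q ^ 12 * ((q + 1) ^ 2 * (q ^ 2 - q + 1) * (q ^ 8 + q ^ 4 + 1)) := by
  obtain ⟨P, hB, hN⟩ := D4.twBN hq hK
  obtain ⟨X, hX⟩ := D4.exists_tw hq hK
  let Z : TorusData D4.struct p (twistedD4 K q) := ⟨P, hB, hN, fun b hb => by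
    subst hX
    rw [← D4.G1_eq X] at hb ⊢
    rw [X.borel_inf_G1 (D4.relOK X)] at hb
    obtain ⟨u, hu, t, ht, e⟩ := X.B1_decomp hb
    exact ⟨u, hu, t, X.T1_le_diag ht, e⟩⟩
  obtain ⟨φ, hφ, hker⟩ := D4.twWeyl hq hK
  obtain ⟨h1, h2, h3⟩ := Z.weyl φ hφ hker
  refine ⟨Z, h1 6 pow_six_G2, h2, h3.trans G2.natCard_coxeter, Z.index_eq (D4.twH hq hK) ?_⟩
  rw [D4.twOrder hq hK]
  obtain ⟨a, rfl⟩ : ∃ a, q = a + 1 := ⟨q - 1, by have := hq.one_lt; omega⟩
  have h2' : (a + 1) ^ 2 - 1 = a * (a + 1 + 1) := by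
    have : (a + 1) ^ 2 = a * (a + 1 + 1) + 1 := by ring
    omega
  have h3' : (a + 1) ^ 2 - (a + 1) + 1 = a * a + a + 1 := by
    have : (a + 1) ^ 2 = a * a + a + (a + 1) := by ring
    omega
  have h6 : (a + 1) ^ 6 - 1 = a * (a + 1 + 1) * ((a + 1) ^ 2 + (a + 1) + 1) * (a * a + a + 1) := by
    have : (a + 1) ^ 6 = a * (a + 1 + 1) * ((a + 1) ^ 2 + (a + 1) + 1) * (a * a + a + 1) + 1 := by ring
    omega
  rw [h2', h3', h6, Nat.add_sub_cancel]
  ring

/-- No section of degree seven when five divides `q - 1`. -/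
theorem dFour_no_seven_split (p : ℕ) [Fact p.Prime] [CharP K p] (hp : p ≠ 5) {q : ℕ} (hq : IsPrimePow q)
    (hK : Fintype.card K = q ^ 3) (h5 : q % 5 = 1)
    (X : Subgroup ↥(twistedD4 K q)) (f : ↥X →* ↥(alternatingGroup (Fin 7))) (hf : Function.Surjective f) :
    False := by
  haveI : Fact (Nat.Prime 5) := ⟨by norm_num⟩
  obtain ⟨x, y, hx, hxy⟩ := five_data
  obtain ⟨Z, hM, -, -, hidx⟩ := exists_tw_data p hq hK
  refine Z.no_auto (l := 5) (M := 6) (Ne.symm hp) ?_ hM f hf hx hxy (by norm_num)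
  rw [hidx]
  obtain ⟨j, hj⟩ : ∃ j, q = 5 * j + 1 := ⟨q / 5, by omega⟩
  have e : q ^ 2 - q + 1 = 5 * (5 * j * j + j) + 1 := by
    have : q ^ 2 = 5 * (5 * j * j + j) + q := by rw [hj]; ring
    omega
  rw [e, Nat.dvd_iff_mod_eq_zero]
  simp [Nat.mul_mod, Nat.pow_mod, Nat.add_mod, h5]

/-- The group over a larger field. -/
theorem exists_tw_emb {q : ℕ} (hK : Fintype.card K = q ^ 3) {L : Type} [Field L] (η : K →+* L) :
    ∃ ι : ↥(twistedD4 K q) →* ↥(twistedD4 L (q ^ 4)), Function.Injective ι := by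
  let μ := Matrix.GeneralLinearGroup.map (n := chevD4.Idx) η
  have hμ : Function.Injective μ := fun a b h =>
    Units.ext (Matrix.map_injective η.injective (congrArg Units.val h))
  have hqc : ∀ t : K, t ^ q ^ 3 = t := fun t => hK ▸ FiniteField.pow_card t
  have hq4 : ∀ t : K, t ^ (q ^ 4) = t ^ q := fun t => by
    rw [show q ^ 4 = q ^ 3 * q by ring, pow_mul, hqc]
  have hq8 : ∀ t : K, t ^ ((q ^ 4) ^ 2) = t ^ (q ^ 2) := fun t => by
    rw [show (q ^ 4) ^ 2 = q ^ 3 * (q ^ 3 * q ^ 2) by ring, pow_mul, hqc, pow_mul, hqc]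
  have hword : ∀ w : List (ℕ × K), (chevD4.wordMat K w).map η = chevD4.wordMat L (w.map fun p => (p.1, η p.2)) := by
    intro w
    induction w with
    | nil => simp [ChevalleyDatum.wordMat]
    | cons p w ih =>
      simp only [ChevalleyDatum.wordMat, List.map_cons, List.prod_cons] at ih ⊢
      rw [Matrix.map_mul, ih, Ok.map_x]
  have hgen : ∀ w ∈ d4Words K q, (w.map fun p => (p.1, η p.2)) ∈ d4Words L (q ^ 4) := by
    rintro w (⟨t, ht, r, hr, rfl⟩ | ⟨t, rs, hrs, rfl⟩)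
    · exact Or.inl ⟨η t, by rw [← map_pow, hq4, ht], r, hr, rfl⟩
    · exact Or.inr ⟨η t, rs, hrs, by simp [← map_pow, hq4, hq8]⟩
  have hle : ∀ g ∈ twistedD4 K q, μ g ∈ twistedD4 L (q ^ 4) := fun g hg => by
    refine Subgroup.closure_induction (p := fun g _ => μ g ∈ twistedD4 L (q ^ 4)) ?_ ?_ ?_ ?_ hg
    · rintro g ⟨w, hw, hg⟩
      refine Subgroup.subset_closure ⟨_, hgen w hw, ?_⟩
      rw [← hword w, ← hg]
      rfl
    · rw [map_one]; exact (twistedD4 L (q ^ 4)).one_mem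
    · exact fun a b _ _ ha hb => by rw [map_mul]; exact (twistedD4 L (q ^ 4)).mul_mem ha hb
    · exact fun a _ ha => by rw [map_inv]; exact (twistedD4 L (q ^ 4)).inv_mem ha
  exact ⟨(μ.comp (twistedD4 K q).subtype).codRestrict _ fun g => hle g g.2,
    fun a b h => Subtype.ext (hμ (congrArg Subtype.val h))⟩

/-- No section of degree seven outside characteristic five. -/
theorem dFour_no_seven (p : ℕ) [Fact p.Prime] [CharP K p] (hp : p ≠ 5) {q : ℕ} (hq : IsPrimePow q)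
    (hK : Fintype.card K = q ^ 3)
    (X : Subgroup ↥(twistedD4 K q)) (f : ↥X →* ↥(alternatingGroup (Fin 7))) (hf : Function.Surjective f) :
    False := by
  obtain ⟨L, _, _, _, -, hcard⟩ := Cfsg.Lib.SpectrumNine.exists_extension (F := K) 4 (by norm_num)
  haveI : CharP L p := (algebraMap K L).charP_iff_charP p |>.1 inferInstance
  obtain ⟨ι, hι⟩ := exists_tw_emb (q := q) hK (algebraMap K L)
  obtain ⟨X', f', hf'⟩ := map_section ι hι f hf
  have h5 : ¬5 ∣ q := fun h => not_five_dvd_card (F := K) p hp (hK ▸ dvd_pow h (by norm_num))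
  refine dFour_no_seven_split p hp (hq.pow (by norm_num)) ?_ (pow_four_mod_five h5) X' f' hf'
  rw [hcard, hK]; ring

/-- No section of degree eight in characteristic five. -/
theorem dFour_no_eight [CharP K 5] {q : ℕ} (hq : IsPrimePow q) (hK : Fintype.card K = q ^ 3)
    (X : Subgroup ↥(twistedD4 K q)) (f : ↥X →* ↥(alternatingGroup (Fin 8))) (hf : Function.Surjective f) :
    False := by
  haveI : Fact (Nat.Prime 5) := ⟨by norm_num⟩
  obtain ⟨Z, -, hnorm, h12, hidx⟩ := exists_tw_data (K := K) 5 hq hK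
  haveI : NeZero chevD4.rank := ⟨by decide⟩
  refine no_alt_eight (Nn := Z.P.N) (T := Z.P.B ⊓ Z.P.N) hnorm Z.comm ?_ ?_ (by rw [h12]; norm_num) f hf
  · obtain ⟨W, hW⟩ := D4.exists_tw hq hK
    have hpre : ∀ t : {t : ↥(Z.P.B ⊓ Z.P.N) // t * t = 1},
        ∃ c : Fin chevD4.rank → Kˣ, (∀ i, c i * c i = 1) ∧ c 3 = c 2 ∧ c 0 = c 3 ∧
          Ok.tG chevD4 K c = ((t.1 : ↥(twistedD4 K q)) : GL chevD4.Idx K) := fun t => by
      have hm : ((t.1 : ↥(twistedD4 K q)) : GL chevD4.Idx K) ∈ chevD4.diagonalSubgroup K ⊓ W.G1 := by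
        refine ⟨Z.mem_diag t.1.2, ?_⟩
        rw [D4.G1_eq W, hW]
        exact (t.1 : ↥(twistedD4 K q)).2
      rw [W.diag_inf_G1 (D4.relOK W)] at hm
      obtain ⟨c, hc, e⟩ := hm
      have h2 : c * c = 1 := by
        have hk := D4.card_ker W
        rw [Nat.card_eq_one_iff_unique] at hk
        have := hk.1.elim ⟨c * c, W.CT.mul_mem hc hc, by
          rw [map_mul, e, ← Subgroup.coe_mul, ← Subgroup.coe_mul, t.2]; rfl⟩ ⟨1, W.CT.one_mem, map_one _⟩
        exact congrArg Subtype.val this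
      have hpm : ∀ i, c (W.piF i) = c i := fun i => by
        refine Units.ext ?_
        rw [← (W.mem_CT.1 hc) i, W.hfq]
        have h1 : (c i : K) * (c i : K) = 1 := by rw [← Units.val_mul]; exact congrArg Units.val (congrFun h2 i)
        rcases mul_self_eq_one_iff.1 h1 with h | h <;> rw [h]
        · exact one_pow _
        · obtain ⟨p', k, hp', -, e'⟩ := hq
          obtain ⟨n, -, hn⟩ := FiniteField.card K 5
          have : Odd (Fintype.card K) := hn ▸ Odd.pow (by decide)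
          rw [hK, Nat.odd_pow_iff (by norm_num)] at this
          exact Odd.neg_one_pow (hW ▸ this)
      have hp0 : W.piF 0 = 2 := Fin.ext (by show D4.tw.piAt 0 = 2; rfl)
      have hp2 : W.piF 2 = 3 := Fin.ext (by show D4.tw.piAt 2 = 3; rfl)
      refine ⟨c, fun i => congrFun h2 i, hp2 ▸ hpm 2, ?_, e⟩
      exact ((hp2 ▸ hpm 2).trans (hp0 ▸ hpm 0)).symm
    choose c hc2 hc32 hc03 hc using hpre
    refine (Nat.card_le_card_of_injective
      (fun t => ((⟨c t 0, hc2 t 0⟩, ⟨c t 1, hc2 t 1⟩) : {u : Kˣ // u * u = 1} × {u : Kˣ // u * u = 1}))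
      fun a b h => ?_).trans ?_
    · obtain ⟨e0, e1⟩ := Prod.ext_iff.1 h
      replace e0 : c a 0 = c b 0 := congrArg Subtype.val e0
      replace e1 : c a 1 = c b 1 := congrArg Subtype.val e1
      have e : c a = c b := funext fun i => by
        fin_cases i
        · exact e0
        · exact e1
        · exact ((hc03 a).trans (hc32 a)).symm.trans (e0.trans ((hc03 b).trans (hc32 b)))
        · exact (hc03 a).symm.trans (e0.trans (hc03 b))
      exact Subtype.ext (Subtype.ext (Subtype.ext ((hc a).symm.trans (e ▸ hc b))))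
    · rw [Nat.card_prod]
      exact (Nat.mul_le_mul card_units_sq card_units_sq).trans (by norm_num)
  · intro h
    have h1 := Subgroup.relIndex_mul_index (inf_le_right : Z.P.B ⊓ Z.P.N ≤ Z.P.N)
    rw [h12, hidx] at h1
    obtain ⟨k, hk⟩ := h
    obtain ⟨n, -, hn⟩ := FiniteField.card K 5
    have h4 : q % 4 = 1 := by
      obtain ⟨p', k', hp', hk', rfl⟩ := hq
      have hpp : p'.Prime := hp'.nat_prime
      have : p' ∣ 5 ^ (n : ℕ) := hn ▸ hK ▸ dvd_pow (dvd_pow_self p' hk'.ne') (by norm_num)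
      obtain rfl := (Nat.prime_dvd_prime_iff_eq hpp (by norm_num : Nat.Prime 5)).1 (hpp.dvd_of_dvd_pow this)
      rw [Nat.pow_mod]; norm_num
    obtain ⟨j, rfl⟩ : ∃ j, q = 4 * j + 1 := ⟨q / 4, by omega⟩
    have e' : (4 * j + 1) ^ 2 - (4 * j + 1) + 1 = 2 * (8 * j * j + 2 * j) + 1 := by
      have : (4 * j + 1) ^ 2 = 2 * (8 * j * j + 2 * j) + (4 * j + 1) := by ring
      omega
    rw [hk, e'] at h1
    have e : (4 * j + 1) ^ 12 * (2 * j + 1) ^ 2 * (2 * (8 * j * j + 2 * j) + 1) *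
        ((4 * j + 1) ^ 8 + (4 * j + 1) ^ 4 + 1) = 6 * k := by linarith
    have e2 := congrArg (· % 2) e
    simp [Nat.mul_mod, Nat.pow_mod, Nat.add_mod] at e2

end Cfsg.Lib.Known.AltSections
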