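import Mathlib

/-!
# Commuting elements of order four in the alternating group of degree eight

They have the same square.
-/

set_option autoImplicit false
set_option maxRecDepth 10000

namespace Cfsg.Lib.Known.AltSections

open Equiv

local notation "S₈" => Perm (Fin 8)

/-- A four-cycle. -/
def cyc4 : S₈ := List.formPerm [0, 1, 2, 3]

/-- The other four-cycle. -/
def cyc4' : S₈ := List.formPerm [4, 5, 6, 7]

/-- A transposition. -/
def cyc2 : S₈ := List.formPerm [4, 5]

/-- The exchange of the two halves. -/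
def halves : S₈ := swap 0 4 * swap 1 5 * swap 2 6 * swap 3 7

/-- The first representative. -/
def rep1 : S₈ := cyc4 * cyc2

/-- The second representative. -/
def rep2 : S₈ := cyc4 * cyc4'

/-- The values of the first representative. -/
def val1 : Fin 8 → Fin 8 := ![1, 2, 3, 0, 5, 4, 6, 7]

/-- The values of the second representative. -/
def val2 : Fin 8 → Fin 8 := ![1, 2, 3, 0, 5, 6, 7, 4]

theorem rep1_apply : ∀ k, rep1 k = val1 k := by decide +kernel

theorem rep2_apply : ∀ k, rep2 k = val2 k := by decide +kernel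

/-- The map commuting with the first representative with given values. -/
def com1 (w x y z : Fin 8) : Fin 8 → Fin 8 := ![w, val1 w, val1 (val1 w), val1 (val1 (val1 w)), x, val1 x, y, z]

/-- The map commuting with the second representative with given values. -/
def com2 (w x : Fin 8) : Fin 8 → Fin 8 :=
  ![w, val2 w, val2 (val2 w), val2 (val2 (val2 w)), x, val2 x, val2 (val2 x), val2 (val2 (val2 x))]

theorem com1_table : ∀ w : Fin 8, val1 (val1 w) ≠ w → ∀ x : Fin 8, val1 (val1 x) = x → val1 x ≠ x →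
    ∀ y : Fin 8, val1 y = y → ∀ z : Fin 8, val1 z = z → y ≠ z →
      (∀ k, com1 w x y z (com1 w x y z k) = k) ∨ (∀ k, com1 w x y z (com1 w x y z k) = val1 (val1 k)) := by
  decide +kernel

theorem com2_table : ∀ w x : Fin 8, x ≠ w → val2 w ≠ x → val2 (val2 w) ≠ x → val2 (val2 (val2 w)) ≠ x →
    ((w : ℕ) % 4 + (x : ℕ) % 4) % 2 = 0 →
      (∀ k, com2 w x (com2 w x k) = k) ∨ (∀ k, com2 w x (com2 w x k) = val2 (val2 k)) := by
  decide +kernel

theorem cent2_table : ∀ w x : Fin 8, x ≠ w → val2 w ≠ x → val2 (val2 w) ≠ x → val2 (val2 (val2 w)) ≠ x →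
    (halves ^ ((w : ℕ) / 4) * cyc4 ^ ((w : ℕ) % 4) * cyc4' ^ ((x : ℕ) % 4)) 0 = w ∧
    (halves ^ ((w : ℕ) / 4) * cyc4 ^ ((w : ℕ) % 4) * cyc4' ^ ((x : ℕ) % 4)) 4 = x := by
  decide +kernel

theorem cent2_gens : Commute halves rep2 ∧ Commute cyc4 rep2 ∧ Commute cyc4' rep2 :=
  ⟨Perm.ext (by decide +kernel), Perm.ext (by decide +kernel), Perm.ext (by decide +kernel)⟩

theorem cent2_signs : Perm.sign halves = 1 ∧ Perm.sign cyc4 = -1 ∧ Perm.sign cyc4' = -1 := by decide +kernel

theorem eq_com1 {b : S₈} (hc : ∀ k, b (val1 k) = val1 (b k)) : ⇑b = com1 (b 0) (b 4) (b 6) (b 7) := by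
  funext k
  fin_cases k <;> simp [com1, ← hc] <;> rfl

theorem eq_com2 {b : S₈} (hc : ∀ k, b (val2 k) = val2 (b k)) : ⇑b = com2 (b 0) (b 4) := by
  funext k
  fin_cases k <;> simp [com2, ← hc] <;> rfl

theorem pairs_rep1 {b : S₈} (h : b * rep1 = rep1 * b) : b * b = 1 ∨ b * b = rep1 * rep1 := by
  have hc : ∀ k, b (val1 k) = val1 (b k) := fun k => by
    simpa [← rep1_apply] using congrArg (fun σ : S₈ => σ k) h
  have e := eq_com1 hc
  have hne : ∀ i j : Fin 8, i ≠ j → b i ≠ b j := fun i j hij he => hij (b.injective he)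
  have h0 : val1 (val1 (b 0)) ≠ b 0 := by rw [← hc, ← hc]; exact hne _ _ (by decide)
  have h4 : val1 (val1 (b 4)) = b 4 := by rw [← hc, ← hc]; exact congrArg b (by decide)
  have h4' : val1 (b 4) ≠ b 4 := by rw [← hc]; exact hne _ _ (by decide)
  have h6 : val1 (b 6) = b 6 := by rw [← hc]; exact congrArg b (by decide)
  have h7 : val1 (b 7) = b 7 := by rw [← hc]; exact congrArg b (by decide)
  rcases com1_table _ h0 _ h4 h4' _ h6 _ h7 (hne 6 7 (by decide)) with h' | h'
  · exact Or.inl (Perm.ext fun k => by simpa [← e] using h' k)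
  · exact Or.inr (Perm.ext fun k => by simpa [← e, rep1_apply] using h' k)

theorem pairs_rep2 {b : S₈} (h : b * rep2 = rep2 * b) (hb : Perm.sign b = 1) :
    b * b = 1 ∨ b * b = rep2 * rep2 := by
  have hc : ∀ k, b (val2 k) = val2 (b k) := fun k => by
    simpa [← rep2_apply] using congrArg (fun σ : S₈ => σ k) h
  have e := eq_com2 hc
  have hne : ∀ i j : Fin 8, i ≠ j → b i ≠ b j := fun i j hij he => hij (b.injective he)
  have h1 : b 4 ≠ b 0 := hne _ _ (by decide)
  have h2 : val2 (b 0) ≠ b 4 := by rw [← hc]; exact hne _ _ (by decide)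
  have h3 : val2 (val2 (b 0)) ≠ b 4 := by rw [← hc, ← hc]; exact hne _ _ (by decide)
  have h4 : val2 (val2 (val2 (b 0))) ≠ b 4 := by rw [← hc, ← hc, ← hc]; exact hne _ _ (by decide)
  obtain ⟨hs0, hs4⟩ := cent2_table _ _ h1 h2 h3 h4
  obtain ⟨g1, g2, g3⟩ := cent2_gens
  obtain ⟨s1, s2, s3⟩ := cent2_signs
  set σ : S₈ := halves ^ ((b 0 : ℕ) / 4) * cyc4 ^ ((b 0 : ℕ) % 4) * cyc4' ^ ((b 4 : ℕ) % 4) with hσ
  have hcσ : ∀ k, σ (val2 k) = val2 (σ k) := fun k => by
    have := (((g1.pow_left _).mul_left (g2.pow_left _)).mul_left (g3.pow_left _) : Commute σ rep2)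
    rw [← rep2_apply, ← rep2_apply]
    exact DFunLike.congr_fun this.eq k
  have hσb : σ = b := DFunLike.coe_injective ((eq_com2 hcσ).trans (by rw [hs0, hs4, ← e]))
  have hpar : ((b 0 : ℕ) % 4 + (b 4 : ℕ) % 4) % 2 = 0 := by
    rw [← hσb, hσ, map_mul, map_mul, map_pow, map_pow, map_pow, s1, s2, s3, one_pow, one_mul, ← pow_add] at hb
    rcases Nat.even_or_odd ((b 0 : ℕ) % 4 + (b 4 : ℕ) % 4) with h | h
    · exact Nat.even_iff.1 h
    · rw [h.neg_one_pow] at hb; exact absurd hb (by decide)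
  rcases com2_table _ _ h1 h2 h3 h4 hpar with h' | h'
  · exact Or.inl (Perm.ext fun k => by simpa [← e] using h' k)
  · exact Or.inr (Perm.ext fun k => by simpa [← e, rep2_apply] using h' k)

theorem replicate_table : ∀ i : Fin 3, ∀ j : Fin 5, 4 * (i : ℕ) + 2 * j ≤ 8 → 1 ≤ (i : ℕ) →
    Even ((i : ℕ) + j) → ((i : ℕ) = 1 ∧ (j : ℕ) = 1) ∨ ((i : ℕ) = 2 ∧ (j : ℕ) = 0) := by decide +kernel

theorem rep_types : Perm.cycleType rep1 = {4, 2} ∧ Perm.cycleType rep2 = {4, 4} := by
  have h4 : Perm.cycleType cyc4 = {4} := by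
    rw [show Perm.cycleType cyc4 = {cyc4.support.card} from Perm.IsCycle.cycleType (List.isCycle_formPerm (l := [(0 : Fin 8), 1, 2, 3]) (by decide) (by decide)), show cyc4.support = {0, 1, 2, 3} by decide +kernel]
    rfl
  have h4' : Perm.cycleType cyc4' = {4} := by
    rw [show Perm.cycleType cyc4' = {cyc4'.support.card} from Perm.IsCycle.cycleType (List.isCycle_formPerm (l := [(4 : Fin 8), 5, 6, 7]) (by decide) (by decide)), show cyc4'.support = {4, 5, 6, 7} by decide +kernel]
    rfl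
  have h2 : Perm.cycleType cyc2 = {2} := by
    rw [show Perm.cycleType cyc2 = {cyc2.support.card} from Perm.IsCycle.cycleType (List.isCycle_formPerm (l := [(4 : Fin 8), 5]) (by decide) (by decide)), show cyc2.support = {4, 5} by decide +kernel]
    rfl
  have d2 : Perm.Disjoint cyc4 cyc2 := (by decide +kernel : ∀ k, cyc4 k = k ∨ cyc2 k = k)
  have d4 : Perm.Disjoint cyc4 cyc4' := (by decide +kernel : ∀ k, cyc4 k = k ∨ cyc4' k = k)
  constructor
  · rw [rep1, d2.cycleType_mul, h4, h2]; rfl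
  · rw [rep2, d4.cycleType_mul, h4, h4']; rfl

/-- A two-element of the alternating group has order at most four. -/
theorem pow_four {x : S₈} (hx : Perm.sign x = 1) {n : ℕ} (h : x ^ 2 ^ n = 1) : x ^ 4 = 1 := by
  by_contra hne
  obtain ⟨m, -, hm⟩ := (Nat.dvd_prime_pow Nat.prime_two).1 (orderOf_dvd_of_pow_eq_one h)
  have h3 : 3 ≤ m := by
    by_contra hm3
    exact hne (orderOf_dvd_iff_pow_eq_one.1 (hm ▸ Nat.pow_dvd_pow 2 (by omega : m ≤ 2)))
  have hsum : x.cycleType.sum ≤ 8 := by
    rw [Perm.sum_cycleType]; exact (Finset.card_le_univ _).trans_eq (Fintype.card_fin 8)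
  have hall : ∀ d ∈ x.cycleType, d ∣ 4 ∨ d = 8 := fun d hd => by
    obtain ⟨i, -, rfl⟩ := (Nat.dvd_prime_pow Nat.prime_two).1 (hm ▸ Perm.dvd_of_mem_cycleType hd)
    have : 2 ^ i ≤ 8 := (Multiset.le_sum_of_mem hd).trans hsum
    have : i ≤ 3 := (Nat.pow_le_pow_iff_right (by norm_num : 1 < 2)).1 (by norm_num; omega)
    interval_cases i <;> simp
  by_cases h8 : 8 ∈ x.cycleType
  · obtain ⟨s, hs⟩ := Multiset.exists_cons_of_mem h8
    rw [hs, Multiset.sum_cons] at hsum
    have hs0 : s = 0 := by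
      refine Multiset.eq_zero_of_forall_notMem fun d hd => ?_
      have h2 := Perm.two_le_of_mem_cycleType (σ := x) (hs ▸ Multiset.mem_cons_of_mem hd)
      have := Multiset.le_sum_of_mem hd
      omega
    rw [Perm.sign_of_cycleType, hs, hs0] at hx
    revert hx
    decide
  · refine hne (orderOf_dvd_iff_pow_eq_one.1 ?_)
    rw [← Perm.lcm_cycleType]
    exact Multiset.lcm_dvd.2 fun d hd => (hall d hd).resolve_right fun e => h8 (e ▸ hd)

/-- Two commuting elements of order four of the alternating group have the same square. -/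
theorem pairs {a b : S₈} (ha : Perm.sign a = 1) (hb : Perm.sign b = 1) (ha4 : a ^ 4 = 1) (hab : a * b = b * a)
    (ha2 : a * a ≠ 1) (hb2 : b * b ≠ 1) : a * a = b * b := by
  have hparts : ∀ d ∈ a.cycleType, d = 2 ∨ d = 4 := fun d hd => by
    have h1 := (Perm.dvd_of_mem_cycleType hd).trans (orderOf_dvd_of_pow_eq_one ha4)
    have h2 := Perm.two_le_of_mem_cycleType hd
    have := Nat.le_of_dvd (by norm_num) h1
    interval_cases d <;> simp_all
  have h4 : 4 ∈ a.cycleType := by
    by_contra h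
    refine ha2 ?_
    rw [← pow_two, ← orderOf_dvd_iff_pow_eq_one, ← Perm.lcm_cycleType]
    refine Multiset.lcm_dvd.2 fun d hd => ?_
    rcases hparts d hd with rfl | rfl
    · rfl
    · exact absurd hd h
  have hform : a.cycleType = Multiset.replicate (a.cycleType.count 4) 4 + Multiset.replicate (a.cycleType.count 2) 2 := by
    ext d
    rw [Multiset.count_add, Multiset.count_replicate, Multiset.count_replicate]
    by_cases hd : d ∈ a.cycleType
    · rcases hparts d hd with rfl | rfl <;> simp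
    · rw [Multiset.count_eq_zero.2 hd]
      split_ifs <;> subst_vars <;> simp_all [Multiset.count_eq_zero]
  set i := a.cycleType.count 4
  set j := a.cycleType.count 2
  have hsum : 4 * i + 2 * j ≤ 8 := by
    have : a.cycleType.sum ≤ 8 := by
      rw [Perm.sum_cycleType]; exact (Finset.card_le_univ _).trans_eq (Fintype.card_fin 8)
    rw [hform, Multiset.sum_add, Multiset.sum_replicate, Multiset.sum_replicate] at this
    simp only [smul_eq_mul] at this
    omega
  have hi : 1 ≤ i := Multiset.one_le_count_iff_mem.2 h4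
  have hev : Even (i + j) := by
    rw [Perm.sign_of_cycleType, hform] at ha
    simp only [Multiset.sum_add, Multiset.sum_replicate, Multiset.card_add, Multiset.card_replicate, smul_eq_mul] at ha
    rw [pow_add, Even.neg_one_pow ⟨i * 2 + j, by ring⟩, one_mul] at ha
    rcases Nat.even_or_odd (i + j) with h | h
    · exact h
    · rw [h.neg_one_pow] at ha; exact absurd ha (by decide)
  obtain ⟨⟨hi1, hj1⟩⟩ | ⟨⟨hi1, hj1⟩⟩ : PLift (i = 1 ∧ j = 1) ⊕' PLift (i = 2 ∧ j = 0) := by
    by_cases h : i = 1 ∧ j = 1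
    · exact .inl ⟨h⟩
    · exact .inr ⟨(replicate_table ⟨i, by omega⟩ ⟨j, by omega⟩ hsum hi hev).resolve_left h⟩
  · obtain ⟨c, hc⟩ := isConj_iff.1 ((Perm.isConj_iff_cycleType_eq (σ := a) (τ := rep1)).2
      (by rw [hform, hi1, hj1, rep_types.1]; rfl))
    have hcom : c * b * c⁻¹ * rep1 = rep1 * (c * b * c⁻¹) := by
      rw [← hc]
      calc c * b * c⁻¹ * (c * a * c⁻¹) = c * (b * a) * c⁻¹ := by group
        _ = _ := by rw [← hab]; group
    rcases pairs_rep1 hcom with h | h
    · exact absurd (by simpa [mul_assoc] using congrArg (fun z => c⁻¹ * z * c) h) hb2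
    · rw [← hc] at h
      simpa [mul_assoc] using (congrArg (fun z => c⁻¹ * z * c) h).symm
  · obtain ⟨c, hc⟩ := isConj_iff.1 ((Perm.isConj_iff_cycleType_eq (σ := a) (τ := rep2)).2
      (by rw [hform, hi1, hj1, rep_types.2]; rfl))
    have hcom : c * b * c⁻¹ * rep2 = rep2 * (c * b * c⁻¹) := by
      rw [← hc]
      calc c * b * c⁻¹ * (c * a * c⁻¹) = c * (b * a) * c⁻¹ := by group
        _ = _ := by rw [← hab]; group
    rcases pairs_rep2 hcom (by simp [hb, mul_comm]) with h | h
    · exact absurd (by simpa [mul_assoc] using congrArg (fun z => c⁻¹ * z * c) h) hb2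
    · rw [← hc] at h
      simpa [mul_assoc] using (congrArg (fun z => c⁻¹ * z * c) h).symm

end Cfsg.Lib.Known.AltSections
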