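import Cfsg.Agent.Known.AltSections.Fusion
import Cfsg.Agent.Coprime.SchurZassenhaus

/-!
# Fusion of arbitrary subgroups of the torus of a split Tits system

An element normalising any subgroup of the torus acts on it as an element of `N`.
-/

set_option autoImplicit false
set_option linter.style.haveILetI false

namespace Cfsg.Lib.Known.AltSections

open Cfsg.Lib.BN Cfsg.Lib.Steinberg
open scoped Pointwise

universe u

variable {G : Type u} [Group G] [Finite G] {P : Cfsg.BNPair G} {U : Subgroup G} {p : ℕ}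

/-- The action of a normalising element on any subgroup of the torus is that of an element of `N`. -/
theorem torus_fusion_of_le (S : Split P U p) {Q : Subgroup G}
    (hQH : Q ≤ P.B ⊓ P.N) {g : G} (hg : ∀ s ∈ Q, g * s * g⁻¹ ∈ Q) :
    ∃ n ∈ P.N, ∀ s ∈ Q, g * s * g⁻¹ = n * s * n⁻¹ := by
  haveI : Fact p.Prime := ⟨S.prime⟩
  have hsurj : ∀ s' ∈ Q, ∃ s ∈ Q, g * s * g⁻¹ = s' := by
    intro s' hs'
    have hinj : Function.Injective fun s : Q => (⟨g * s * g⁻¹, hg _ s.2⟩ : Q) := fun a b e =>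
      Subtype.ext (by simpa using congrArg Subtype.val e)
    obtain ⟨s, hs⟩ := (Finite.injective_iff_surjective.1 hinj) ⟨s', hs'⟩
    exact ⟨s, s.2, congrArg Subtype.val hs⟩
  obtain ⟨k, hk, hgk⟩ := bruhat P g
  obtain ⟨a, ha, e⟩ := S.cell_decomp hk hgk
  have hc : (a * k)⁻¹ * g ∈ P.B := mk_eq_mk.1 e.symm
  have hB : ∀ s ∈ Q, k⁻¹ * (a⁻¹ * s * a) * k ∈ P.B := by
    intro s hs
    obtain ⟨t, ht, rfl⟩ := hsurj s hs
    have h := mul_mem (mul_mem hc (hQH ht).1) (inv_mem hc)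
    convert h using 1
    group
  have hUn : ∀ s ∈ Q, ∀ r ∈ U, s * r * s⁻¹ ∈ U := fun s hs r hr => S.normal s (hQH hs).1 r hr
  have hQn : Q ≤ Subgroup.normalizer ((rad P U k) : Set G) := by
    have key : ∀ s ∈ Q, ∀ r ∈ rad P U k, s * r * s⁻¹ ∈ rad P U k := by
      intro s hs r hr
      obtain ⟨hrU, hrB⟩ := mem_rad.1 hr
      refine mem_rad.2 ⟨hUn s hs r hrU, ?_⟩
      have ht := (conj_inv_mem_inf hk (hQH hs)).1
      have := P.B.mul_mem (P.B.mul_mem ht hrB) (P.B.inv_mem ht)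
      convert this using 1
      group
    intro s hs
    rw [Subgroup.mem_normalizer_iff]
    refine fun r => ⟨key s hs r, fun hr => ?_⟩
    have := key s⁻¹ (inv_mem hs) _ hr
    convert this using 1
    group
  have hrad : ∀ s ∈ Q, a⁻¹ * s * a * s⁻¹ ∈ rad P U k := by
    intro s hs
    refine mem_rad.2 ⟨?_, ?_⟩
    · have := U.mul_mem (U.inv_mem ha) (hUn s hs a ha)
      convert this using 1
      group
    · have := mul_mem (hB s hs) (inv_mem (conj_inv_mem_inf hk (hQH hs)).1)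
      convert this using 1
      group
  obtain ⟨e, he⟩ := IsPGroup.iff_card.1
    (S.isPGroup.to_le (fun x hx => (mem_rad.1 hx).1 : rad P U k ≤ U))
  have hcop : (Nat.card ↥(rad P U k)).Coprime (Nat.card Q) := by
    rw [he]
    refine (S.prime.coprime_iff_not_dvd.2 fun h => S.coprime ?_).pow_left e
    exact h.trans (Subgroup.card_dvd_of_le hQH)
  have hsol : Group.IsSolvable ↥(rad P U k) := by
    haveI := (IsPGroup.of_card he : IsPGroup p ↥(rad P U k)).isNilpotent
    infer_instance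
  have hQ2X : Q.map (MulAut.conj a⁻¹).toMonoidHom ≤ rad P U k ⊔ Q := by
    rintro _ ⟨s, hs, rfl⟩
    have := mul_mem (Subgroup.mem_sup_left (T := Q) (hrad s hs)) (Subgroup.mem_sup_right (S := rad P U k) hs)
    simpa [mul_assoc] using this
  obtain ⟨x, hx, hxe⟩ := Cfsg.Lib.Coprime.exists_conj_eq_of_solvable_left hQn hcop hsol hQ2X
    (Subgroup.card_map_of_injective (MulAut.conj a⁻¹).injective)
  have hconj : ∀ s ∈ Q, x⁻¹ * (a⁻¹ * s * a) * x ∈ Q := by
    intro s hs
    have h1 : a⁻¹ * s * a ∈ Q.map (MulAut.conj a⁻¹).toMonoidHom := ⟨s, hs, by simp⟩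
    rw [hxe, Cfsg.Lib.Coprime.mem_conjMap] at h1
    exact h1
  set b := a * x with hb
  have hbU : b ∈ U := U.mul_mem ha (mem_rad.1 hx).1
  have hbc : ∀ s ∈ Q, b * s = s * b := by
    intro s hs
    have h1 : b⁻¹ * s * b ∈ Q := by
      convert hconj s hs using 1
      rw [hb]
      group
    have h2 : b⁻¹ * s * b * s⁻¹ = 1 := inter_eq_one S (by
      have := U.mul_mem (U.inv_mem hbU) (hUn s hs b hbU)
      convert this using 1
      group) (mul_mem (hQH h1) (inv_mem (hQH hs)))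
    rw [mul_inv_eq_one, mul_assoc, inv_mul_eq_iff_eq_mul] at h2
    exact h2.symm
  set c := (b * k)⁻¹ * g with hcdef
  have hcB : c ∈ P.B := by
    have h1 : k⁻¹ * x⁻¹ * k ∈ P.B := (mem_rad.1 ((rad P U k).inv_mem hx)).2
    have := mul_mem h1 hc
    convert this using 1
    rw [hcdef, hb]
    group
  obtain ⟨u, hu, h, hh, hc'⟩ := S.decomp c hcB
  refine ⟨k * h, P.N.mul_mem hk hh.2, fun s hs => ?_⟩
  have hcs : c * s * c⁻¹ = k⁻¹ * (g * s * g⁻¹) * k := by
    have hbs := hbc _ (hg s hs)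
    calc c * s * c⁻¹ = k⁻¹ * (b⁻¹ * (g * s * g⁻¹) * b) * k := by rw [hcdef]; group
      _ = k⁻¹ * (g * s * g⁻¹) * k := by rw [mul_assoc b⁻¹, ← hbs, inv_mul_cancel_left]
  have hH : c * s * c⁻¹ ∈ P.B ⊓ P.N := hcs ▸ conj_inv_mem_inf hk (hQH (hg s hs))
  have hH' : h * s * h⁻¹ ∈ P.B ⊓ P.N := conj_mem_inf hh.2 (hQH hs)
  have h1 : c * s * c⁻¹ * (h * s * h⁻¹)⁻¹ = 1 := inter_eq_one S (by
    have := U.mul_mem hu (S.normal _ hH'.1 _ (U.inv_mem hu))
    convert this using 1
    rw [hc']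
    group) (mul_mem hH (inv_mem hH'))
  rw [mul_inv_eq_one, hcs] at h1
  calc g * s * g⁻¹ = k * (k⁻¹ * (g * s * g⁻¹) * k) * k⁻¹ := by group
    _ = _ := by rw [h1]; group


end Cfsg.Lib.Known.AltSections
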