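import Cfsg.Agent.Known.AltSections.WeylF4

/-!
# The action of the monomial elements on the torus of type `F₄`
-/

set_option autoImplicit false

namespace Cfsg.Lib.Known.AltSections

open Cfsg.Lie Cfsg.Lib.Chev

universe u

variable {D : ChevalleyDatum} {C : Cert} {F : Type u} [Field F]

theorem act_pow (S : Struct D C) {g : GL D.Idx F} {w : Equiv.Perm (Fin D.nroots)} (h : Act S.ok g w) :
    ∀ n : ℕ, Act S.ok (g ^ n) (w ^ n)
  | 0 => by rw [pow_zero, pow_zero]; exact S.act_one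
  | n + 1 => by rw [pow_succ, pow_succ]; exact S.act_mul (act_pow S h n) h

theorem diag_comm (S : Struct D C) {a b : GL D.Idx F} (ha : a ∈ D.diagonalSubgroup F)
    (hb : b ∈ D.diagonalSubgroup F) : a * b = b * a := by
  rw [S.ok.diagonalSubgroup_eq] at ha hb
  obtain ⟨c, rfl⟩ := ha
  obtain ⟨d, rfl⟩ := hb
  rw [← map_mul, ← map_mul, mul_comm]

theorem conj_eq_self_of_act_one (S : Struct D C) {g : GL D.Idx F} (hg : g ∈ D.monomialSubgroup F)
    (h : Act S.ok g 1) {t : GL D.Idx F} (ht : t ∈ D.diagonalSubgroup F) : g * t * g⁻¹ = t := by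
  obtain ⟨L, hL, hiff⟩ := S.exists_act hg
  rw [diag_comm S (hiff.1 (S.act_unique hL h)) ht, mul_inv_cancel_right]

/-- An element inducing the permutation `-1` of the roots inverts the torus. -/
theorem conj_eq_inv_of_act_neg (S : Struct D C) {g : GL D.Idx F} (hg : g ∈ D.monomialSubgroup F)
    {u : Equiv.Perm (Fin D.nroots)} (h : Act S.ok g u) (hu : ∀ r, (u r).val = D.neg r.val)
    {t : GL D.Idx F} (ht : t ∈ D.diagonalSubgroup F) : g * t * g⁻¹ = t⁻¹ := by
  have ht' := S.norm_diag hg ht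
  rw [S.ok.diagonalSubgroup_eq] at ht ht'
  obtain ⟨c, rfl⟩ := ht
  obtain ⟨c', hc'⟩ := ht'
  rw [← hc', ← map_inv]
  have hchi : ∀ r : Fin D.nroots, (∏ i, c' i ^ D.cartan i (u r).val : Fˣ) = ∏ i, c i ^ D.cartan i r.val := by
    intro r
    have hne : (g : Matrix D.Idx D.Idx F) (Sum.inr (u r)) (Sum.inr r) ≠ 0 := by
      intro h0
      have hcol : ∀ x, (g : Matrix D.Idx D.Idx F) x (Sum.inr r) = 0 := fun x => by
        by_cases hx : x = Sum.inr (u r)
        · rw [hx, h0]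
        · exact (h r).1 x hx
      have h1 : (((g⁻¹ : GL D.Idx F) : Matrix D.Idx D.Idx F) * (g : Matrix D.Idx D.Idx F)) (Sum.inr r) (Sum.inr r)
          = 1 := by
        rw [← Units.val_mul, inv_mul_cancel, Units.val_one, Matrix.one_apply_eq]
      rw [Matrix.mul_apply, Finset.sum_eq_zero fun x _ => by rw [hcol x, mul_zero]] at h1
      exact zero_ne_one h1
    have e : ((Ok.tG D F c' * g : GL D.Idx F) : Matrix D.Idx D.Idx F) (Sum.inr (u r)) (Sum.inr r) =
        ((g * Ok.tG D F c : GL D.Idx F) : Matrix D.Idx D.Idx F) (Sum.inr (u r)) (Sum.inr r) := by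
      rw [hc', inv_mul_cancel_right]
    rw [Units.val_mul, Units.val_mul, Ok.tG_val, Ok.tG_val, Matrix.diagonal_mul, Matrix.mul_diagonal,
      Sum.elim_inr, Sum.elim_inr, mul_comm] at e
    exact Units.ext (mul_left_cancel₀ hne e)
  apply Units.ext
  rw [Ok.tG_val, Ok.tG_val]
  congr 1
  funext x
  rcases x with a | s
  · rfl
  · simp only [Sum.elim_inr]
    congr 1
    obtain ⟨r, rfl⟩ := u.surjective s
    rw [hchi r, hu r]
    refine Finset.prod_congr rfl fun i _ => ?_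
    rw [Pi.inv_apply, inv_zpow', ← S.ok.cart_eq i.isLt r.isLt, ← S.ok.neg_eq r.isLt,
      ← S.ok.cart_eq i.isLt (S.ok.neg_lt r.isLt), (S.ok.refl_spec i.isLt r.isLt).2.2.2.2.1, neg_neg]

/-- The three possibilities for the action on the torus of type `F₄`. -/
theorem f4_torus_cases {n : GL chevF4.Idx F} (hn : n ∈ chevF4.monomialSubgroup F) :
    (∀ t ∈ chevF4.diagonalSubgroup F, n ^ 6 * t * (n ^ 6)⁻¹ = t) ∨
    (∀ t ∈ chevF4.diagonalSubgroup F, n ^ 8 * t * (n ^ 8)⁻¹ = t) ∨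
    (∀ t ∈ chevF4.diagonalSubgroup F, n ^ 6 * t * (n ^ 6)⁻¹ = t⁻¹) := by
  obtain ⟨L, hL, -⟩ := F4.struct.exists_act hn
  have hp : ∀ j, n ^ j ∈ chevF4.monomialSubgroup F := fun j => Subgroup.pow_mem _ hn j
  rcases f4_pow_cases (F4.struct.wpL_mem_WG L) with h | h | h
  · exact Or.inl fun t ht => conj_eq_self_of_act_one F4.struct (hp 6) (h ▸ act_pow F4.struct hL 6) ht
  · exact Or.inr (Or.inl fun t ht => conj_eq_self_of_act_one F4.struct (hp 8) (h ▸ act_pow F4.struct hL 8) ht)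
  · exact Or.inr (Or.inr fun t ht => conj_eq_inv_of_act_neg F4.struct (hp 6) (act_pow F4.struct hL 6) h ht)

/-- Every monomial element to the power twenty-four centralises the torus. -/
theorem f4_pow_comm {n : GL chevF4.Idx F} (hn : n ∈ chevF4.monomialSubgroup F) :
    ∀ t ∈ chevF4.diagonalSubgroup F, n ^ 24 * t * (n ^ 24)⁻¹ = t := by
  have hcomp : ∀ (a : GL chevF4.Idx F), (∀ t ∈ chevF4.diagonalSubgroup F, a * t * a⁻¹ = t) →
      ∀ (j : ℕ), ∀ t ∈ chevF4.diagonalSubgroup F, a ^ j * t * (a ^ j)⁻¹ = t := by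
    intro a ha j
    induction j with
    | zero => intro t _; simp
    | succ j ih =>
      intro t ht
      rw [pow_succ, show a ^ j * a * t * (a ^ j * a)⁻¹ = a ^ j * (a * t * a⁻¹) * (a ^ j)⁻¹ by group, ha t ht, ih t ht]
  rcases f4_torus_cases hn with h | h | h
  · intro t ht
    rw [show (24 : ℕ) = 6 * 4 from rfl, pow_mul]; exact hcomp _ h 4 t ht
  · intro t ht
    rw [show (24 : ℕ) = 8 * 3 from rfl, pow_mul]; exact hcomp _ h 3 t ht
  · have h12 : ∀ t ∈ chevF4.diagonalSubgroup F, n ^ 12 * t * (n ^ 12)⁻¹ = t := fun t ht => by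
      rw [show (12 : ℕ) = 6 + 6 from rfl, pow_add, show n ^ 6 * n ^ 6 * t * (n ^ 6 * n ^ 6)⁻¹ =
        n ^ 6 * (n ^ 6 * t * (n ^ 6)⁻¹) * (n ^ 6)⁻¹ by group, h t ht, h _ (inv_mem ht), inv_inv]
    intro t ht
    rw [show (24 : ℕ) = 12 * 2 from rfl, pow_mul]; exact hcomp _ h12 2 t ht

end Cfsg.Lib.Known.AltSections
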