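import Cfsg.Agent.Known.AltSections.Torus
import Cfsg.Agent.Known.AltSections.WeylTorus
import Cfsg.Agent.Known.AltSections.FusionCoprime
import Cfsg.Agent.Known.AltSections.CriterionPair
import Cfsg.Agent.Known.AltSections.AltTwelve
import Cfsg.Agent.Known.SpectrumNine.Torus

/-!
# Alternating sections of the groups of type `F₄`
-/

set_option autoImplicit false
set_option linter.style.haveILetI false
set_option linter.unusedSectionVars false

namespace Cfsg.Lib.Known.AltSections

open Cfsg.Lie Cfsg.Lib.Chev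

universe u

/-- The group over an extension contains the sections of the group over the field. -/
theorem chev_map_section (D : ChevalleyDatum) {F K : Type*} [Field F] [Field K] [Algebra F K]
    {A : Type*} [Group A] {X : Subgroup ↥(D.group F)} (f : ↥X →* A) (hf : Function.Surjective f) :
    ∃ (X' : Subgroup ↥(D.group K)) (f' : ↥X' →* A), Function.Surjective f' := by
  let μ := Matrix.GeneralLinearGroup.map (n := D.Idx) (algebraMap F K)
  have hμ : Function.Injective μ := fun a b h =>
    Units.ext (Matrix.map_injective (algebraMap F K).injective (congrArg Units.val h))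
  have hle : ∀ g ∈ D.group F, μ g ∈ D.group K := fun g hg => by
    refine Subgroup.closure_induction (p := fun g _ => μ g ∈ D.group K) ?_ ?_ ?_ ?_ hg
    · rintro g ⟨r, t, hg⟩
      refine Subgroup.subset_closure ⟨r, algebraMap F K t, ?_⟩
      have := Ok.map_x D (algebraMap F K) r.val t
      simpa [ChevalleyDatum.x, hg, μ] using this
    · rw [map_one]; exact (D.group K).one_mem
    · exact fun a b _ _ ha hb => by rw [map_mul]; exact (D.group K).mul_mem ha hb
    · exact fun a _ ha => by rw [map_inv]; exact (D.group K).inv_mem ha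
  let ι : ↥(D.group F) →* ↥(D.group K) :=
    (μ.comp (D.group F).subtype).codRestrict _ fun g => hle g g.2
  exact map_section ι (fun a b h => Subtype.ext (hμ (congrArg Subtype.val h))) f hf

variable {F : Type u} [Field F] [Fintype F]

/-- The torus data of the group. -/
theorem fFour_data (p : ℕ) [Fact p.Prime] [CharP F p] :
    Nonempty (TorusData F4.struct p (chevF4.group F)) := by
  have hd : ∀ i j : Fin chevF4.rank, i ≠ j → F4.cert.sr i.val ≠ F4.cert.sr j.val :=
    fun i j h => F4.struct.simple_ne okNeg_F4 i j h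
  obtain ⟨P, hB, hN, -⟩ := F4.struct.exists_bnPair (F := F) hd
  refine ⟨⟨P, by rw [Subgroup.inf_subgroupOf_right]; exact hB, by rw [Subgroup.inf_subgroupOf_right]; exact hN,
    fun b hb => ?_⟩⟩
  obtain ⟨u, hu, d, hd', e⟩ := F4.struct.borel_decomp hb.1
  exact ⟨u, ⟨hu, F4.struct.borel_le_group (F4.struct.B_le_of hu)⟩, d, hd', e⟩

theorem fFour_monomial {p : ℕ} (Z : TorusData F4.struct p (chevF4.group F)) {n : ↥(chevF4.group F)} (hn : n ∈ Z.P.N) :
    (n : GL chevF4.Idx F) ∈ chevF4.monomialSubgroup F := by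
  rw [Z.hN, Subgroup.mem_subgroupOf] at hn
  exact hn.1

theorem fFour_pow_comm {p : ℕ} (Z : TorusData F4.struct p (chevF4.group F)) :
    ∀ n ∈ (Z.P.N : Set ↥(chevF4.group F)), ∀ t ∈ Z.P.B ⊓ Z.P.N, n ^ 24 * t * (n ^ 24)⁻¹ = t := fun n hn t ht =>
  Subtype.ext (by
    simp only [Subgroup.coe_mul, Subgroup.coe_inv, SubgroupClass.coe_pow]
    exact f4_pow_comm (fFour_monomial Z hn) _ (Z.mem_diag ht))

/-- The index of the torus is congruent to the order of the Weyl group. -/
theorem fFour_index {p : ℕ} (Z : TorusData F4.struct p (chevF4.group F)) {l : ℕ}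
    (hl : Fintype.card F % l = 1) (hW : ¬ l ∣ 1152) : ¬ l ∣ (Z.P.B ⊓ Z.P.N).index := by
  set q := Fintype.card F with hq
  obtain ⟨a, ha⟩ : ∃ a, q = a + 1 := ⟨q - 1, by have := Fintype.card_pos (α := F); omega⟩
  set S : ℕ → ℕ := fun k => ∑ i ∈ Finset.range k, q ^ i with hS
  have hgeo : ∀ k, q ^ k - 1 = (q - 1) * S k := fun k => by
    have h := geom_sum_mul_add a k
    rw [← ha] at h
    rw [← h, Nat.add_sub_cancel, show q - 1 = a by omega, mul_comm]
  have hidx : (Z.P.B ⊓ Z.P.N).index = q ^ 24 * S 2 * S 6 * S 8 * S 12 := by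
    refine Z.index_eq (t := (q - 1) ^ 4) ?_ ?_
    · rw [inf_eq_left.2 F4.struct.diag_le_group, ← one_mul (Nat.card _)]
      exact F4.card_torus hq.symm
    · have h := F4.struct.order_formula (F := F) okNeg_F4 F4.poincare hq.symm (F4.card_torus hq.symm)
      rw [show chevF4.nroots / 2 = 24 from rfl] at h
      simp only [List.map_cons, List.map_nil, List.prod_cons, List.prod_nil, mul_one, one_mul, hgeo] at h
      rw [h]
      ring
  rw [hidx]
  intro h
  refine hW ?_
  rw [← CharP.cast_eq_zero_iff (ZMod l) l] at h ⊢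
  have hq1 : (q : ZMod l) = 1 := by
    rw [← ZMod.natCast_mod q l, hl, Nat.cast_one]
  have hS1 : ∀ k, (S k : ZMod l) = k := fun k => by simp [hS, hq1]
  simp only [Nat.cast_mul, Nat.cast_pow, hq1, hS1, one_pow] at h
  exact Eq.trans (by norm_num) h

theorem fFour_card_mod (p : ℕ) [Fact p.Prime] [CharP F p] {l : ℕ} (hl : l.Prime) (hp : p ≠ l) {n : ℕ}
    (hn : l - 1 ∣ n) : Fintype.card F ^ n % l = 1 := by
  obtain ⟨k, hk, e⟩ := FiniteField.card F p
  obtain ⟨j, rfl⟩ := hn
  haveI : Fact l.Prime := ⟨hl⟩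
  have h0 : ((Fintype.card F : ℕ) : ZMod l) ≠ 0 := by
    rw [Ne, CharP.cast_eq_zero_iff (ZMod l) l, e]
    exact fun h => hp ((Nat.prime_dvd_prime_iff_eq hl hk).1 (hl.dvd_of_dvd_pow h)).symm
  have h1 : ((Fintype.card F ^ ((l - 1) * j) : ℕ) : ZMod l) = ((1 : ℕ) : ZMod l) := by
    rw [Nat.cast_pow, pow_mul, ZMod.pow_card_sub_one_eq_one h0, one_pow, Nat.cast_one]
  rw [ZMod.natCast_eq_natCast_iff'] at h1
  rw [h1, Nat.mod_eq_of_lt hl.one_lt]

theorem fFour_no_eleven_split (p : ℕ) [Fact p.Prime] [CharP F p] (h11 : Fintype.card F % 11 = 1)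
    (X : Subgroup ↥(chevF4.group F)) (f : ↥X →* ↥(alternatingGroup (Fin 11))) (hf : Function.Surjective f) :
    False := by
  haveI : Fact (Nat.Prime 11) := ⟨by norm_num⟩
  obtain ⟨x, y, hx, hxy⟩ := eleven_data
  obtain ⟨Z⟩ := fFour_data (F := F) p
  have S := Cfsg.Lib.Known.SylFix.split_sub p F4.struct Z.P Z.hB Z.hN Z.hdec
  refine no_section (l := 11) (M := 24) (fFour_index Z h11 (by norm_num)) (fun Q hQ _ g hg s hs => ?_) f hf hx hxy
    (by norm_num)
  obtain ⟨n, hn, hact⟩ := torus_fusion_of_le S hQ hg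
  have hiter : ∀ (i : ℕ), ∀ t ∈ Q, g ^ i * t * (g ^ i)⁻¹ ∈ Q ∧ g ^ i * t * (g ^ i)⁻¹ = n ^ i * t * (n ^ i)⁻¹ := by
    intro i
    induction i with
    | zero => intro t ht; simpa using ht
    | succ i ih =>
      intro t ht
      obtain ⟨h1, h2⟩ := ih t ht
      rw [pow_succ', pow_succ', show g * g ^ i * t * (g * g ^ i)⁻¹ = g * (g ^ i * t * (g ^ i)⁻¹) * g⁻¹ by group,
        show n * n ^ i * t * (n * n ^ i)⁻¹ = n * (n ^ i * t * (n ^ i)⁻¹) * n⁻¹ by group, ← h2]
      exact ⟨hg _ h1, hact _ h1⟩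
  rw [(hiter 24 s hs).2]
  exact fFour_pow_comm Z n hn s (hQ hs)

theorem fFour_no_twelve_split (p : ℕ) [Fact p.Prime] [CharP F p] (h5 : Fintype.card F % 5 = 1)
    (h7 : Fintype.card F % 7 = 1) (X : Subgroup ↥(chevF4.group F)) (f : ↥X →* ↥(alternatingGroup (Fin 12)))
    (hf : Function.Surjective f) : False := by
  haveI : Fact (Nat.Prime 5) := ⟨by norm_num⟩
  haveI : Fact (Nat.Prime 7) := ⟨by norm_num⟩
  obtain ⟨x, z, y, hx, hz, hxz, hyx, hyz⟩ := twelve_data
  obtain ⟨Z⟩ := fFour_data (F := F) p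
  have S := Cfsg.Lib.Known.SylFix.split_sub p F4.struct Z.P Z.hB Z.hN Z.hdec
  obtain ⟨n, hn, he⟩ := exists_automizer (a := 5) (b := 7) (by norm_num) (fFour_index Z h5 (by norm_num))
    (fFour_index Z h7 (by norm_num)) (fun a ha b hb => Z.comm a ha b hb) (Nn := (Z.P.N : Set _)) (M := 24)
    (by decide) (fFour_pow_comm Z) (fun Q hQ g hg => torus_fusion_of_le S hQ hg) f hf hx hz hxz hyx hyz
  rcases f4_torus_cases (fFour_monomial Z hn) with h | h | h
  · have h1 := (he 6 1 fun t ht => Subtype.ext (by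
      simpa using h _ (Z.mem_diag ht))).1
    rw [zpow_one, ← pow_mod_orderOf, hx] at h1
    have h2 : x ^ 4 = x ^ 1 := by simpa using h1
    rw [pow_eq_pow_iff_modEq, hx] at h2
    exact absurd h2 (by decide)
  · have h1 := (he 8 1 fun t ht => Subtype.ext (by
      simpa using h _ (Z.mem_diag ht))).2
    rw [zpow_one, ← pow_mod_orderOf, hz] at h1
    have h2 : z ^ 2 = z ^ 1 := by simpa using h1
    rw [pow_eq_pow_iff_modEq, hz] at h2
    exact absurd h2 (by decide)
  · have h1 := (he 6 (-1) fun t ht => Subtype.ext (by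
      simpa using h _ (Z.mem_diag ht))).2
    rw [zpow_neg_one, ← pow_mod_orderOf, hz] at h1
    have h2 : z ^ 1 = z⁻¹ := by simpa using h1
    have h3 : z ^ 2 = 1 := by rw [pow_two, ← pow_one z, mul_eq_one_iff_eq_inv]; simpa using h2
    have h4 := orderOf_dvd_of_pow_eq_one h3
    rw [hz] at h4
    exact absurd h4 (by decide)

/-- No section of degree eleven outside characteristic eleven. -/
theorem fFour_no_eleven (p : ℕ) [Fact p.Prime] [CharP F p] (hp : p ≠ 11)
    (X : Subgroup ↥(chevF4.group F)) (f : ↥X →* ↥(alternatingGroup (Fin 11))) (hf : Function.Surjective f) :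
    False := by
  obtain ⟨K, _, _, _, -, hcard⟩ := Cfsg.Lib.SpectrumNine.exists_extension (F := F) 10 (by norm_num)
  haveI : CharP K p := (algebraMap F K).charP_iff_charP p |>.1 inferInstance
  obtain ⟨X', f', hf'⟩ := chev_map_section chevF4 (K := K) f hf
  exact fFour_no_eleven_split p (hcard ▸ fFour_card_mod p (by norm_num) hp (by norm_num)) X' f' hf'

/-- No section of degree twelve in characteristic different from five and seven. -/
theorem fFour_no_twelve (p : ℕ) [Fact p.Prime] [CharP F p] (hp5 : p ≠ 5) (hp7 : p ≠ 7)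
    (X : Subgroup ↥(chevF4.group F)) (f : ↥X →* ↥(alternatingGroup (Fin 12))) (hf : Function.Surjective f) :
    False := by
  obtain ⟨K, _, _, _, -, hcard⟩ := Cfsg.Lib.SpectrumNine.exists_extension (F := F) 12 (by norm_num)
  haveI : CharP K p := (algebraMap F K).charP_iff_charP p |>.1 inferInstance
  obtain ⟨X', f', hf'⟩ := chev_map_section chevF4 (K := K) f hf
  exact fFour_no_twelve_split p (hcard ▸ fFour_card_mod p (by norm_num) hp5 (by norm_num))
    (hcard ▸ fFour_card_mod p (by norm_num) hp7 (by norm_num)) X' f' hf'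

end Cfsg.Lib.Known.AltSections
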