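import Cfsg.Agent.Steinberg.Vanish

/-!
# Fusion inside the torus of a split Tits system

An element normalising a subgroup of the torus of order prime to the characteristic acts on it as an element of `N`.
-/

set_option autoImplicit false

namespace Cfsg.Lib.Known.AltSections

open Cfsg.Lib.BN Cfsg.Lib.Steinberg
open scoped Pointwise

universe u

variable {G : Type u} [Group G] [Finite G] {P : Cfsg.BNPair G} {U : Subgroup G} {p : ℕ}

theorem inter_eq_one (S : Split P U p) {x : G} (hU : x ∈ U) (hH : x ∈ P.B ⊓ P.N) : x = 1 := by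
  obtain ⟨e, he⟩ := exists_pow_of_mem S hU
  have h1 : orderOf x ∣ Nat.card ↥(P.B ⊓ P.N) := by
    rw [← Subgroup.orderOf_mk x hH]; exact orderOf_dvd_natCard _
  exact orderOf_eq_one_iff.1 (Nat.eq_one_of_dvd_coprimes
    ((S.prime.coprime_iff_not_dvd.2 S.coprime).pow_left e) (he ▸ dvd_rfl) h1)

omit [Finite G] in
theorem conj_inv_mem_inf {k t : G} (hk : k ∈ P.N) (ht : t ∈ P.B ⊓ P.N) : k⁻¹ * t * k ∈ P.B ⊓ P.N := by
  simpa using conj_mem_inf (P := P) (P.N.inv_mem hk) ht

/-- The action of a normalising element on a part of the torus is that of an element of `N`. -/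
theorem torus_fusion (S : Split P U p) {l : ℕ} [Fact l.Prime] (hl : l ≠ p) {Q : Subgroup G}
    (hQH : Q ≤ P.B ⊓ P.N) (hQ : IsPGroup l Q) {g : G} (hg : ∀ s ∈ Q, g * s * g⁻¹ ∈ Q) :
    ∃ n ∈ P.N, ∀ s ∈ Q, g * s * g⁻¹ = n * s * n⁻¹ := by
  haveI : Fact p.Prime := ⟨S.prime⟩
  have hsurj : ∀ s' ∈ Q, ∃ s ∈ Q, g * s * g⁻¹ = s' := by
    intro s' hs'
    have hinj : Function.Injective fun s : Q => (⟨g * s * g⁻¹, hg _ s.2⟩ : Q) := fun a b e =>
      Subtype.ext (by simpa using congrArg Subtype.val e)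
    obtain ⟨s, hs⟩ := (Finite.injective_iff_surjective.1 hinj) ⟨s', hs'⟩
    exact ⟨s, s.2, congrArg Subtype.val hs⟩
  obtain ⟨k, hk, hgk⟩ := bruhat P g
  obtain ⟨a, ha, e⟩ := S.cell_decomp hk hgk
  have hc : (a * k)⁻¹ * g ∈ P.B := mk_eq_mk.1 e.symm
  have hB : ∀ s ∈ Q, k⁻¹ * (a⁻¹ * s * a) * k ∈ P.B := by
    intro s hs
    obtain ⟨t, ht, rfl⟩ := hsurj s hs
    have h := mul_mem (mul_mem hc (hQH ht).1) (inv_mem hc)
    convert h using 1
    group
  have hUn : ∀ s ∈ Q, ∀ r ∈ U, s * r * s⁻¹ ∈ U := fun s hs r hr => S.normal s (hQH hs).1 r hr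
  have hQn : Q ≤ Subgroup.normalizer ((rad P U k) : Set G) := by
    have key : ∀ s ∈ Q, ∀ r ∈ rad P U k, s * r * s⁻¹ ∈ rad P U k := by
      intro s hs r hr
      obtain ⟨hrU, hrB⟩ := mem_rad.1 hr
      refine mem_rad.2 ⟨hUn s hs r hrU, ?_⟩
      have ht := (conj_inv_mem_inf hk (hQH hs)).1
      have := P.B.mul_mem (P.B.mul_mem ht hrB) (P.B.inv_mem ht)
      convert this using 1
      group
    intro s hs
    rw [Subgroup.mem_normalizer_iff]
    refine fun r => ⟨key s hs r, fun hr => ?_⟩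
    have := key s⁻¹ (inv_mem hs) _ hr
    convert this using 1
    group
  have hrad : ∀ s ∈ Q, a⁻¹ * s * a * s⁻¹ ∈ rad P U k := by
    intro s hs
    refine mem_rad.2 ⟨?_, ?_⟩
    · have := U.mul_mem (U.inv_mem ha) (hUn s hs a ha)
      convert this using 1
      group
    · have := mul_mem (hB s hs) (inv_mem (conj_inv_mem_inf hk (hQH hs)).1)
      convert this using 1
      group
  set X := rad P U k ⊔ Q with hX
  have hcard : ¬ l ∣ (Q.subgroupOf X).index := by
    have h1 : (Q.subgroupOf X).index = Q.relIndex (rad P U k) := by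
      show Q.relIndex (rad P U k ⊔ Q) = _
      rw [← Subgroup.inf_relIndex_right, ← Subgroup.inf_relIndex_right (H := Q) (K := rad P U k)]
      have hbot : Q ⊓ rad P U k = ⊥ := eq_bot_iff.2 fun x hx =>
        inter_eq_one S (mem_rad.1 hx.2).1 (hQH hx.1)
      rw [hbot, Subgroup.relIndex_bot_left, inf_eq_left.2 (le_sup_right : Q ≤ rad P U k ⊔ Q)]
      have hc1 : Nat.card ↥(rad P U k ⊔ Q : Subgroup G) = Nat.card ↥(rad P U k) * Nat.card Q := by
        let f : ↥(rad P U k) × Q → ↥(rad P U k ⊔ Q : Subgroup G) := fun x =>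
          ⟨x.1 * x.2, mul_mem (Subgroup.mem_sup_left x.1.2) (Subgroup.mem_sup_right x.2.2)⟩
        refine (Nat.card_eq_of_bijective f ⟨fun x y h => ?_, fun z => ?_⟩).symm.trans (Nat.card_prod _ _)
        · exact Subgroup.mul_injective_of_disjoint (disjoint_iff.2 (by rw [inf_comm]; exact hbot))
            (congrArg Subtype.val h)
        · have hz : (z : G) ∈ ((rad P U k : Set G) * (Q : Set G)) := by
            rw [← Subgroup.coe_mul_of_right_le_normalizer_left _ _ hQn]; exact z.2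
          obtain ⟨x, hx, y, hy, e⟩ := Set.mem_mul.1 hz
          exact ⟨(⟨x, hx⟩, ⟨y, hy⟩), Subtype.ext e⟩
      have := (Q.subgroupOf (rad P U k ⊔ Q)).card_mul_index
      rw [Nat.card_congr (Subgroup.subgroupOfEquivOfLe (le_sup_right : Q ≤ rad P U k ⊔ Q)).toEquiv, hc1,
        mul_comm (Nat.card ↥(rad P U k))] at this
      exact Nat.eq_of_mul_eq_mul_left Nat.card_pos this
    rw [h1]
    intro hd
    obtain ⟨j, hj⟩ := IsPGroup.iff_card.1 (S.isPGroup.to_le (fun x hx => (mem_rad.1 hx).1 : rad P U k ≤ U))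
    have hd' : l ∣ p ^ j := by
      rw [← hj, ← (Q.subgroupOf (rad P U k)).card_mul_index]
      exact dvd_mul_of_dvd_right hd _
    exact hl ((Nat.prime_dvd_prime_iff_eq (Fact.out : l.Prime) S.prime).1 ((Fact.out : l.Prime).dvd_of_dvd_pow hd'))
  let W1 : Sylow l X := (hQ.comap_subtype).toSylow hcard
  set Q2 : Subgroup G := Q.map (MulAut.conj a⁻¹).toMonoidHom with hQ2
  have hQ2X : Q2 ≤ X := by
    rintro _ ⟨s, hs, rfl⟩
    have := mul_mem (Subgroup.mem_sup_left (T := Q) (hrad s hs)) (Subgroup.mem_sup_right (S := rad P U k) hs)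
    simpa [mul_assoc] using this
  have hcard2 : ¬ l ∣ (Q2.subgroupOf X).index := by
    have h1 := (Q2.subgroupOf X).card_mul_index
    have h2 := (Q.subgroupOf X).card_mul_index
    rw [Nat.card_congr (Subgroup.subgroupOfEquivOfLe hQ2X).toEquiv,
      Subgroup.card_map_of_injective (MulAut.conj a⁻¹).injective] at h1
    rw [Nat.card_congr (Subgroup.subgroupOfEquivOfLe (le_sup_right : Q ≤ X)).toEquiv] at h2
    rwa [Nat.eq_of_mul_eq_mul_left Nat.card_pos (h1.trans h2.symm)]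
  let W2 : Sylow l X := ((hQ.map (MulAut.conj a⁻¹).toMonoidHom).comap_subtype).toSylow hcard2
  obtain ⟨x, hx⟩ := MulAction.exists_smul_eq X W2 W1
  have hconj : ∀ s ∈ Q, (x : G) * (a⁻¹ * s * a) * (x : G)⁻¹ ∈ Q := by
    intro s hs
    have h1 : (⟨a⁻¹ * s * a, hQ2X ⟨s, hs, by simp⟩⟩ : X) ∈ (W2 : Subgroup X) :=
      Subgroup.mem_subgroupOf.2 ⟨s, hs, by simp⟩
    have h2 : x * ⟨a⁻¹ * s * a, hQ2X ⟨s, hs, by simp⟩⟩ * x⁻¹ ∈ (W1 : Subgroup X) := by
      rw [← hx, Sylow.coe_subgroup_smul]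
      exact ⟨_, h1, by simp [MulAut.smul_def]⟩
    simpa using Subgroup.mem_subgroupOf.1 h2
  obtain ⟨r, hr, t, ht, hrt⟩ : ∃ r ∈ rad P U k, ∃ t ∈ Q, (x : G) = t * r := by
    have hz : (x : G)⁻¹ ∈ ((rad P U k : Set G) * (Q : Set G)) := by
      rw [← Subgroup.coe_mul_of_right_le_normalizer_left _ _ hQn]; exact inv_mem x.2
    obtain ⟨r, hr, t, ht, e⟩ := Set.mem_mul.1 hz
    exact ⟨r⁻¹, inv_mem hr, t⁻¹, inv_mem ht, by rw [← inv_inv (x : G), ← e, mul_inv_rev]⟩
  set b := a * r⁻¹ with hb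
  have hbU : b ∈ U := U.mul_mem ha (U.inv_mem (mem_rad.1 hr).1)
  have hbc : ∀ s ∈ Q, b * s = s * b := by
    intro s hs
    have h1 : b⁻¹ * s * b ∈ Q := by
      have := Q.mul_mem (Q.mul_mem (Q.inv_mem ht) (hconj s hs)) ht
      convert this using 1
      rw [hrt, hb]
      group
    have h2 : b⁻¹ * s * b * s⁻¹ = 1 := inter_eq_one S (by
      have := U.mul_mem (U.inv_mem hbU) (hUn s hs b hbU)
      convert this using 1
      group) (mul_mem (hQH h1) (inv_mem (hQH hs)))
    rw [mul_inv_eq_one, mul_assoc, inv_mul_eq_iff_eq_mul] at h2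
    exact h2.symm
  set c := (b * k)⁻¹ * g with hcdef
  have hcB : c ∈ P.B := by
    have h1 : k⁻¹ * r * k ∈ P.B := (mem_rad.1 hr).2
    have := mul_mem h1 hc
    convert this using 1
    rw [hcdef, hb]
    group
  obtain ⟨u, hu, h, hh, hc'⟩ := S.decomp c hcB
  refine ⟨k * h, P.N.mul_mem hk hh.2, fun s hs => ?_⟩
  have hcs : c * s * c⁻¹ = k⁻¹ * (g * s * g⁻¹) * k := by
    have hbs := hbc _ (hg s hs)
    calc c * s * c⁻¹ = k⁻¹ * (b⁻¹ * (g * s * g⁻¹) * b) * k := by rw [hcdef]; group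
      _ = k⁻¹ * (g * s * g⁻¹) * k := by rw [mul_assoc b⁻¹, ← hbs, inv_mul_cancel_left]
  have hH : c * s * c⁻¹ ∈ P.B ⊓ P.N := hcs ▸ conj_inv_mem_inf hk (hQH (hg s hs))
  have hH' : h * s * h⁻¹ ∈ P.B ⊓ P.N := conj_mem_inf hh.2 (hQH hs)
  have h1 : c * s * c⁻¹ * (h * s * h⁻¹)⁻¹ = 1 := inter_eq_one S (by
    have := U.mul_mem hu (S.normal _ hH'.1 _ (U.inv_mem hu))
    convert this using 1
    rw [hc']
    group) (mul_mem hH (inv_mem hH'))
  rw [mul_inv_eq_one, hcs] at h1
  calc g * s * g⁻¹ = k * (k⁻¹ * (g * s * g⁻¹) * k) * k⁻¹ := by group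
    _ = _ := by rw [h1]; group

/-- A Weyl group generated by two involutions with product of order dividing an even `m` has exponent dividing `m`. -/
theorem pow_mem_of_dihedral {s t : G} (hS : P.S ⊆ {s, t}) (hs : s ∈ P.S) (ht : t ∈ P.S) {m : ℕ} (hm : Even m)
    (hst : (s * t) ^ m ∈ P.B) {n : G} (hn : n ∈ P.N) : n ^ m ∈ P.B ⊓ P.N := by
  set K := (P.B ⊓ P.N).subgroupOf P.N with hK
  haveI : K.Normal := ⟨fun x hx y => Subgroup.mem_subgroupOf.2 (conj_mem_inf y.2 (Subgroup.mem_subgroupOf.1 hx))⟩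
  set π := QuotientGroup.mk' K
  set a := π ⟨s, P.subset hs⟩ with hadef
  set b := π ⟨t, P.subset ht⟩ with hbdef
  have hone : ∀ (z : G) (hz : z ∈ P.N), z ∈ P.B → π ⟨z, hz⟩ = 1 := fun z hz hzB =>
    (QuotientGroup.eq_one_iff _).2 (Subgroup.mem_subgroupOf.2 ⟨hzB, hz⟩)
  have haa : a * a = 1 := by rw [← map_mul]; exact hone _ _ (P.sq_mem s hs)
  have hbb : b * b = 1 := by rw [← map_mul]; exact hone _ _ (P.sq_mem t ht)
  have hab : (a * b) ^ m = 1 := by
    rw [← map_mul, ← map_pow]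
    exact hone _ _ (by simpa using hst)
  set D := Subgroup.zpowers (a * b)
  have hflip : ∀ d ∈ D, a * d * a = d⁻¹ := by
    rintro _ ⟨j, rfl⟩
    have ha' : a⁻¹ = a := inv_eq_of_mul_eq_one_right haa
    have hb' : b⁻¹ = b := inv_eq_of_mul_eq_one_right hbb
    have h1 : a * (a * b) * a⁻¹ = (a * b)⁻¹ := by rw [mul_inv_rev, ha', hb', ← mul_assoc, haa, one_mul]
    show a * (a * b) ^ j * a = ((a * b) ^ j)⁻¹
    calc a * (a * b) ^ j * a = a * (a * b) ^ j * a⁻¹ := by rw [ha']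
      _ = (a * (a * b) * a⁻¹) ^ j := conj_zpow.symm
      _ = _ := by rw [h1, inv_zpow]
  have hmem : n ∈ Subgroup.closure P.S ⊔ (P.B ⊓ P.N) := by rw [P.closure_sup]; exact hn
  have key : ∀ (z : G) (hz : z ∈ P.N), π ⟨z, hz⟩ ∈ D ∨ π ⟨z, hz⟩ * a ∈ D := by
    intro z hz
    have hz' : z ∈ Subgroup.closure (P.S ∪ ((P.B ⊓ P.N : Subgroup G) : Set G)) := by
      rw [Subgroup.closure_union, Subgroup.closure_eq, P.closure_sup]; exact hz
    induction hz' using Subgroup.closure_induction with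
    | mem y hy =>
      rcases hy with hy | hy
      · rcases hS hy with rfl | rfl
        · exact Or.inr (by rw [show π ⟨y, hz⟩ = a from rfl, haa]; exact D.one_mem)
        · refine Or.inr ?_
          have h := D.inv_mem (Subgroup.mem_zpowers (a * b))
          rwa [mul_inv_rev, inv_eq_of_mul_eq_one_right haa, inv_eq_of_mul_eq_one_right hbb] at h
      · exact Or.inl (by rw [hone _ hz hy.1]; exact D.one_mem)
    | one => exact Or.inl (by rw [show (⟨1, hz⟩ : P.N) = 1 from rfl, map_one]; exact D.one_mem)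
    | mul y w hy hw ihy ihw =>
      have hyN : y ∈ P.N := by
        rw [← P.closure_sup, ← Subgroup.closure_eq (P.B ⊓ P.N), ← Subgroup.closure_union]; exact hy
      have hwN : w ∈ P.N := by
        rw [← P.closure_sup, ← Subgroup.closure_eq (P.B ⊓ P.N), ← Subgroup.closure_union]; exact hw
      rw [show (⟨y * w, hz⟩ : P.N) = ⟨y, hyN⟩ * ⟨w, hwN⟩ from rfl, map_mul]
      rcases ihy hyN with h1 | h1 <;> rcases ihw hwN with h2 | h2
      · exact Or.inl (D.mul_mem h1 h2)
      · exact Or.inr (by rw [mul_assoc]; exact D.mul_mem h1 h2)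
      · refine Or.inr ?_
        have h := D.mul_mem h1 (D.inv_mem h2)
        rw [← hflip _ h2] at h
        convert h using 1
        simp only [mul_assoc]
        rw [← mul_assoc a a, haa, one_mul]
      · refine Or.inl ?_
        have h := D.mul_mem h1 (D.inv_mem h2)
        rw [← hflip _ h2] at h
        convert h using 1
        simp only [mul_assoc]
        rw [haa, mul_one, ← mul_assoc a a, haa, one_mul]
    | inv y hy ih =>
      have hyN : y ∈ P.N := by
        rw [← P.closure_sup, ← Subgroup.closure_eq (P.B ⊓ P.N), ← Subgroup.closure_union]; exact hy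
      rw [show (⟨y⁻¹, hz⟩ : P.N) = (⟨y, hyN⟩)⁻¹ from rfl, map_inv]
      rcases ih hyN with h1 | h1
      · exact Or.inl (D.inv_mem h1)
      · refine Or.inr ?_
        set z := π ⟨y, hyN⟩
        have h := hflip _ h1
        have e : z⁻¹ * a = z * a := by
          rw [← inv_inv (z * a), ← h]
          simp only [mul_inv_rev, inv_eq_of_mul_eq_one_right haa, mul_assoc]
          rw [← mul_assoc a a, haa, one_mul]
        rw [e]
        exact h1
  refine Subgroup.mem_subgroupOf.1 ((QuotientGroup.eq_one_iff ((⟨n, hn⟩ : P.N) ^ m)).1 ?_)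
  show π _ = 1
  rw [map_pow]
  obtain ⟨m', rfl⟩ := hm
  rcases key n hn with h1 | h1
  · obtain ⟨j, hj⟩ := h1
    rw [← hj, ← zpow_natCast, ← zpow_mul, mul_comm, zpow_mul, zpow_natCast, hab, one_zpow]
  · have h := hflip _ h1
    have hsq : π ⟨n, hn⟩ * π ⟨n, hn⟩ = 1 := by
      have h2 := congrArg (fun z => π ⟨n, hn⟩ * a * z) h
      simp only [mul_inv_cancel, mul_assoc] at h2
      rw [haa, mul_one, ← mul_assoc a a, haa, one_mul] at h2
      exact h2
    rw [← two_mul, pow_mul, pow_two, hsq, one_pow]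

end Cfsg.Lib.Known.AltSections
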