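import Cfsg.Agent.Known.AltSections.Torus
import Cfsg.Agent.Known.SpectrumNine.Torus
import Cfsg.Agent.Known.SylInner.LieFamilies
import Cfsg.Agent.Chev.Types
import Cfsg.Agent.S1039
import Cfsg.Agent.S1059

/-!
# Alternating sections of the groups of type `G₂`
-/

set_option autoImplicit false
set_option linter.style.haveILetI false
set_option linter.unusedSectionVars false

namespace Cfsg.Lib.Known.AltSections

open Cfsg.Lie Cfsg.Lib.Chev

universe u

variable {F : Type u} [Field F] [Fintype F]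

theorem mono_le_group : chevG2.monomialSubgroup F ≤ chevG2.group F :=
  G2.struct.mono_le_group

theorem diag_inf : chevG2.diagonalSubgroup F ⊓ chevG2.group F = chevG2.diagonalSubgroup F :=
  inf_eq_left.2 G2.struct.diag_le_group

/-- The torus data of the group. -/
theorem exists_data (p : ℕ) [Fact p.Prime] [CharP F p] :
    ∃ Z : TorusData G2.struct p (chevG2.group F),
      (∀ n ∈ Z.P.N, n ^ 6 ∈ Z.P.B ⊓ Z.P.N) ∧
      (∀ n ∈ Z.P.N, ∀ t ∈ Z.P.B ⊓ Z.P.N, n * t * n⁻¹ ∈ Z.P.B ⊓ Z.P.N) ∧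
      (Z.P.B ⊓ Z.P.N).relIndex Z.P.N = 12 := by
  have hd : ∀ i j : Fin chevG2.rank, i ≠ j → G2.cert.sr i.val ≠ G2.cert.sr j.val :=
    fun i j h => G2.struct.simple_ne okNeg_G2 i j h
  obtain ⟨P, hB, hN, -⟩ := G2.struct.exists_bnPair (F := F) hd
  refine ⟨⟨P, by rw [Subgroup.inf_subgroupOf_right]; exact hB, by rw [Subgroup.inf_subgroupOf_right]; exact hN,
    fun b hb => ?_⟩, ?_⟩
  · obtain ⟨u, hu, d, hd', e⟩ := G2.struct.borel_decomp hb.1
    exact ⟨u, ⟨hu, G2.struct.borel_le_group (G2.struct.B_le_of hu)⟩, d, hd', e⟩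
  obtain ⟨φ, hφ, hker, -⟩ := Cfsg.Agent.S1039.result (F := F) (chevG2, ⟨2, CoxeterMatrix.G₂⟩) (List.mem_cons_self ..)
  refine (fun h => ⟨h.1 6 pow_six_G2, h.2.1, h.2.2.trans G2.natCard_coxeter⟩)
    (TorusData.weyl _ (φ.comp (Subgroup.inclusion inf_le_left)) ?_ ?_)
  · intro w
    obtain ⟨n, rfl⟩ := hφ w
    exact ⟨⟨n.1, n.2, mono_le_group n.2⟩, rfl⟩
  · rw [← MonoidHom.comap_ker, hker]
    ext n
    simp only [Subgroup.mem_comap, Subgroup.mem_subgroupOf, Subgroup.coe_inclusion, diag_inf]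

/-- The cofactor of the torus in the order. -/
theorem exists_cofactor (p : ℕ) [Fact p.Prime] [CharP F p] (Z : TorusData G2.struct p (chevG2.group F)) :
    (Z.P.B ⊓ Z.P.N).index = Fintype.card F ^ 6 * ((Fintype.card F + 1) ^ 2 * (Fintype.card F ^ 4 + Fintype.card F ^ 2 + 1)) := by
  set q := Fintype.card F with hq
  refine Z.index_eq (t := (q - 1) ^ 2) ?_ ?_
  · rw [diag_inf, ← one_mul (Nat.card _)]
    exact G2.card_torus hq.symm
  · rw [Cfsg.Agent.S1059.result hq.symm]
    obtain ⟨a, ha⟩ : ∃ a, q = a + 1 := ⟨q - 1, by have := Fintype.card_pos (α := F); omega⟩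
    have h2 : q ^ 2 - 1 = (q - 1) * (q + 1) := by
      rw [ha, Nat.add_sub_cancel]
      have : (a + 1) ^ 2 = a * (a + 1 + 1) + 1 := by ring
      omega
    have h6 : q ^ 6 - 1 = (q - 1) * (q + 1) * (q ^ 4 + q ^ 2 + 1) := by
      rw [ha, Nat.add_sub_cancel]
      have : (a + 1) ^ 6 = a * (a + 1 + 1) * ((a + 1) ^ 4 + (a + 1) ^ 2 + 1) + 1 := by ring
      omega
    rw [h2, h6]; ring

/-- No section of degree seven when five divides the order of the multiplicative group. -/
theorem gTwo_no_seven_split (p : ℕ) [Fact p.Prime] [CharP F p] (hp : p ≠ 5) (h5 : Fintype.card F % 5 = 1)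
    (X : Subgroup ↥(chevG2.group F)) (f : ↥X →* ↥(alternatingGroup (Fin 7))) (hf : Function.Surjective f) :
    False := by
  haveI : Fact (Nat.Prime 5) := ⟨by norm_num⟩
  obtain ⟨x, y, hx, hxy⟩ := five_data
  obtain ⟨Z, hM, -, -⟩ := exists_data (F := F) p
  refine Z.no_auto (l := 5) (M := 6) (Ne.symm hp) ?_ hM f hf hx hxy (by norm_num)
  rw [exists_cofactor, Nat.dvd_iff_mod_eq_zero]
  norm_num [Nat.mul_mod, Nat.pow_mod, Nat.add_mod, h5]

theorem pow_four_mod_five {q : ℕ} (h : ¬5 ∣ q) : q ^ 4 % 5 = 1 := by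
  rw [Nat.pow_mod]
  have : q % 5 = 1 ∨ q % 5 = 2 ∨ q % 5 = 3 ∨ q % 5 = 4 := by omega
  rcases this with h | h | h | h <;> rw [h] <;> norm_num

theorem not_five_dvd_card (p : ℕ) [Fact p.Prime] [CharP F p] (hp : p ≠ 5) : ¬5 ∣ Fintype.card F := fun h => by
  obtain ⟨n, hn, e⟩ := FiniteField.card F p
  rw [e] at h
  exact hp ((Nat.prime_dvd_prime_iff_eq (by norm_num) hn).1 ((show Nat.Prime 5 by norm_num).dvd_of_dvd_pow h)).symm

/-- No section of degree seven outside characteristic five. -/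
theorem gTwo_no_seven (p : ℕ) [Fact p.Prime] [CharP F p] (hp : p ≠ 5)
    (X : Subgroup ↥(chevG2.group F)) (f : ↥X →* ↥(alternatingGroup (Fin 7))) (hf : Function.Surjective f) :
    False := by
  obtain ⟨K, _, _, _, -, hcard⟩ := Cfsg.Lib.SpectrumNine.exists_extension (F := F) 4 (by norm_num)
  haveI : CharP K p := (algebraMap F K).charP_iff_charP p |>.1 inferInstance
  let μ := Matrix.GeneralLinearGroup.map (n := chevG2.Idx) (algebraMap F K)
  have hμ : Function.Injective μ := fun a b h =>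
    Units.ext (Matrix.map_injective (algebraMap F K).injective (congrArg Units.val h))
  have hle : ∀ g ∈ chevG2.group F, μ g ∈ chevG2.group K := fun g hg => by
    refine Subgroup.closure_induction (p := fun g _ => μ g ∈ chevG2.group K) ?_ ?_ ?_ ?_ hg
    · rintro g ⟨r, t, hg⟩
      refine Subgroup.subset_closure ⟨r, algebraMap F K t, ?_⟩
      have := Ok.map_x chevG2 (algebraMap F K) r.val t
      simpa [ChevalleyDatum.x, hg, μ] using this
    · rw [map_one]; exact (chevG2.group K).one_mem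
    · exact fun a b _ _ ha hb => by rw [map_mul]; exact (chevG2.group K).mul_mem ha hb
    · exact fun a _ ha => by rw [map_inv]; exact (chevG2.group K).inv_mem ha
  let ι : ↥(chevG2.group F) →* ↥(chevG2.group K) :=
    (μ.comp (chevG2.group F).subtype).codRestrict _ fun g => hle g g.2
  obtain ⟨X', f', hf'⟩ := map_section ι (fun a b h => Subtype.ext (hμ (congrArg Subtype.val h))) f hf
  exact gTwo_no_seven_split p hp (by rw [hcard]; exact pow_four_mod_five (not_five_dvd_card p hp)) X' f' hf'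

/-- No section of degree eight in characteristic five. -/
theorem gTwo_no_eight [CharP F 5]
    (X : Subgroup ↥(chevG2.group F)) (f : ↥X →* ↥(alternatingGroup (Fin 8))) (hf : Function.Surjective f) :
    False := by
  haveI : Fact (Nat.Prime 5) := ⟨by norm_num⟩
  obtain ⟨Z, -, hnorm, h12⟩ := exists_data (F := F) 5
  refine no_alt_eight (Nn := Z.P.N) (T := Z.P.B ⊓ Z.P.N) hnorm Z.comm ?_ ?_ (by rw [h12]; norm_num) f hf
  · have hinj : Function.Injective (Ok.tG chevG2 F) := by
      have hsurj := (Ok.tG chevG2 F).rangeRestrict_surjective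
      refine fun a b h => (Nat.bijective_iff_surjective_and_card _).2 ⟨hsurj, ?_⟩ |>.injective (Subtype.ext h)
      rw [← G2.struct.ok.diagonalSubgroup_eq, Nat.card_fun, Nat.card_units, Nat.card_eq_fintype_card (α := F),
        Nat.card_fin, ← one_mul (Nat.card ↥(chevG2.diagonalSubgroup F))]
      exact (G2.card_torus rfl).symm
    have hpre : ∀ t : {t : ↥(Z.P.B ⊓ Z.P.N) // t * t = 1},
        ∃ c : Fin chevG2.rank → {u : Fˣ // u * u = 1}, Ok.tG chevG2 F (fun i => (c i).1) = ((t.1 : ↥(chevG2.group F)) : GL chevG2.Idx F) := fun t => by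
      obtain ⟨c, hc⟩ := (G2.struct.ok.diagonalSubgroup_eq (F := F)) ▸ Z.mem_diag t.1.2
      have h2 : c * c = 1 := hinj (by
        rw [map_mul, hc, map_one, ← Subgroup.coe_mul, ← Subgroup.coe_mul, t.2]
        rfl)
      exact ⟨fun i => ⟨c i, congrFun h2 i⟩, hc⟩
    choose c hc using hpre
    refine (Nat.card_le_card_of_injective c fun a b h => ?_).trans ?_
    · exact Subtype.ext (Subtype.ext (Subtype.ext ((hc a).symm.trans (h ▸ hc b))))
    · rw [Nat.card_fun, Nat.card_fin, show chevG2.rank = 2 from rfl]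
      exact Nat.pow_le_pow_left card_units_sq 2
  · intro h
    have h1 := Subgroup.relIndex_mul_index (inf_le_right : Z.P.B ⊓ Z.P.N ≤ Z.P.N)
    rw [h12, exists_cofactor] at h1
    obtain ⟨k, hk⟩ := h
    obtain ⟨n, -, hn⟩ := FiniteField.card F 5
    have h5 : Fintype.card F % 4 = 1 := by rw [hn, Nat.pow_mod]; norm_num
    obtain ⟨j, hj⟩ : ∃ j, Fintype.card F = 4 * j + 1 := ⟨Fintype.card F / 4, by omega⟩
    rw [hk, hj] at h1
    have e : (4 * j + 1) ^ 6 * (2 * j + 1) ^ 2 * ((4 * j + 1) ^ 4 + (4 * j + 1) ^ 2 + 1) = 6 * k := by linarith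
    have e2 := congrArg (· % 2) e
    simp [Nat.mul_mod, Nat.pow_mod, Nat.add_mod] at e2

end Cfsg.Lib.Known.AltSections
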