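import Cfsg.Agent.Known.AltSections.Torus
import Cfsg.Agent.Chev.Ree.F4.Weyl

/-!
# Alternating sections of the large Ree groups
-/

set_option autoImplicit false
set_option linter.style.haveILetI false
set_option linter.unusedSectionVars false

namespace Cfsg.Lib.Known.AltSections

open Cfsg.Lie Cfsg.Lib.Chev

universe u

variable {K : Type u} [Field K] [Fintype K]

/-- No alternating section of degree seven. -/
theorem ree_no_seven_aux (R : Cfsg.Lib.Chev.ReeF.RF K) {m : ℕ} (hK : Fintype.card K = 2 ^ (2 * m + 1))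
    (X : Subgroup ↥R.G1) (f : ↥X →* ↥(alternatingGroup (Fin 7))) (hf : Function.Surjective f) :
    False := by
  haveI : Fact (Nat.Prime 2) := ⟨Nat.prime_two⟩
  haveI : Fact (Nat.Prime 7) := ⟨by norm_num⟩
  haveI : CharP K 2 := charP_of_card_eq_prime_pow (f := 2 * m + 1) hK
  obtain ⟨x, y, hx, hxy⟩ := seven_data
  have hord := R.order
  generalize hq : Fintype.card K = q at hK hord
  by_cases h7 : 7 ∣ q - 1
  · obtain ⟨P, h1, h2, -⟩ := R.exists_BN
    let Z : TorusData Cfsg.Lib.Chev.ReeF.SF 2 R.G1 := ⟨P, h1, h2, fun b hb => by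
      obtain ⟨hbB, hbG⟩ := Subgroup.mem_inf.1 hb
      obtain ⟨u, hu, d, hd, e⟩ := R.borel_fixed hbB (by
        have := R.G1_le hbG
        exact this.2)
      exact ⟨u, hu, d, hd.1, e⟩⟩
    obtain ⟨φ, hφ, hker⟩ := R.weyl
    obtain ⟨hM, -, -⟩ := Z.weyl φ hφ hker
    have hT : Nat.card ↥(chevF4.diagonalSubgroup K ⊓ R.G1) = (q - 1) ^ 2 := by
      rw [R.card_H1, hq]
    obtain ⟨b, hb, hb'⟩ : ∃ b, Nat.card ↥R.G1 = (q - 1) ^ 2 * b ∧ ¬7 ∣ b := by
      refine ⟨q ^ 12 * (q ^ 3 + 1) * ((q + 1) * (q ^ 2 + 1)) * (q ^ 6 + 1), ?_, ?_⟩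
      · rw [hord]
        obtain ⟨a, ha⟩ : ∃ a, q = a + 1 := ⟨q - 1, by have := Fintype.card_pos (α := K); omega⟩
        have h4 : q ^ 4 - 1 = (q - 1) * ((q + 1) * (q ^ 2 + 1)) := by
          rw [ha, Nat.add_sub_cancel]
          have : (a + 1) ^ 4 = a * ((a + 1 + 1) * ((a + 1) ^ 2 + 1)) + 1 := by ring
          omega
        rw [h4]; ring
      · have h1 : q % 7 = 1 := by have := Fintype.card_pos (α := K); omega
        rw [Nat.dvd_iff_mod_eq_zero]
        norm_num [Nat.mul_mod, Nat.pow_mod, Nat.add_mod, h1]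
    refine Z.no_auto (l := 7) (M := 16) (by norm_num) (Z.index_eq hT hb ▸ hb') (hM 16 fun w => ?_) f hf hx hxy
      (by norm_num)
    have := pow_card_eq_one' (x := w)
    rwa [DihedralGroup.nat_card] at this
  · obtain ⟨z, hz⟩ := hf x
    have hd : 7 ∣ Nat.card ↥R.G1 := by
      have h3 : orderOf x ∣ orderOf z := hz ▸ orderOf_map_dvd f z
      exact hx ▸ (h3.trans (orderOf_dvd_natCard z)).trans (Subgroup.card_subgroup_dvd_card X)
    rw [hord] at hd
    have h2 : q % 7 = 1 ∨ q % 7 = 2 ∨ q % 7 = 4 := by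
      have e : ∀ j, 2 ^ j % 7 = 1 ∨ 2 ^ j % 7 = 2 ∨ 2 ^ j % 7 = 4 := fun j => by
        induction j with
        | zero => norm_num
        | succ j ih => rw [pow_succ, Nat.mul_mod]; rcases ih with h | h | h <;> rw [h] <;> norm_num
      exact hK ▸ e _
    have h7' : Nat.Prime 7 := by norm_num
    have hq1 : 1 ≤ q := hq ▸ Fintype.card_pos
    have h4 : q ^ 4 - 1 ≡ q - 1 [MOD 7] := by
      refine Nat.ModEq.add_right_cancel' 1 ?_
      rw [Nat.sub_add_cancel (Nat.one_le_pow _ _ hq1), Nat.sub_add_cancel hq1]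
      rcases h2 with h | h | h <;> simp [Nat.ModEq, Nat.pow_mod, h]
    simp only [h7'.dvd_mul] at hd
    rcases hd with (((hd | hd) | hd) | hd) | hd
    · have := h7'.dvd_of_dvd_pow hd
      omega
    · exact h7 hd
    · rw [Nat.dvd_iff_mod_eq_zero, Nat.add_mod, Nat.pow_mod] at hd
      rcases h2 with h | h | h <;> simp [h] at hd
    · exact h7 ((h4.dvd_iff dvd_rfl).1 hd)
    · rw [Nat.dvd_iff_mod_eq_zero, Nat.add_mod, Nat.pow_mod] at hd
      rcases h2 with h | h | h <;> simp [h] at hd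

/-- No alternating section of degree seven. -/
theorem ree_no_seven {m : ℕ} (hK : Fintype.card K = 2 ^ (2 * m + 1))
    (X : Subgroup ↥(twistedF4 K (2 ^ m))) (f : ↥X →* ↥(alternatingGroup (Fin 7))) (hf : Function.Surjective f) :
    False := by
  obtain ⟨R, rfl⟩ := Cfsg.Lib.Chev.ReeF.exists_rf hK
  exact ree_no_seven_aux R hK X f hf

end Cfsg.Lib.Known.AltSections
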