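import Cfsg.Agent.Known.AltSections.Criterion
import Cfsg.Agent.Known.AltSections.Alt
import Cfsg.Agent.Known.AltSections.AltEight
import Cfsg.Agent.Known.SylFix.Families

/-!
# Alternating sections in a matrix group with a split Tits system
-/

set_option autoImplicit false
set_option linter.style.haveILetI false
set_option linter.unusedSectionVars false

namespace Cfsg.Lib.Known.AltSections

open Cfsg.Lie Cfsg.Lib.Chev

universe u w

variable {F : Type u} [Field F] [Fintype F] {D : ChevalleyDatum} {C : Cert}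

/-- The data used for excluding sections. -/
structure TorusData (S : Struct D C) (p : ℕ) (G1 : Subgroup (GL D.Idx F)) where
  /-- the Tits system -/
  P : Cfsg.BNPair ↥G1
  hB : P.B = (D.borelSubgroup F ⊓ G1).subgroupOf G1
  hN : P.N = (D.monomialSubgroup F ⊓ G1).subgroupOf G1
  hdec : ∀ b ∈ D.borelSubgroup F ⊓ G1, ∃ u ∈ D.posUnipotent F ⊓ G1, ∃ d ∈ D.diagonalSubgroup F, b = u * d

variable {S : Struct D C} {p : ℕ} {G1 : Subgroup (GL D.Idx F)}

theorem TorusData.torus_eq (Z : TorusData S p G1) :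
    Z.P.B ⊓ Z.P.N = (D.diagonalSubgroup F ⊓ G1).subgroupOf G1 := by
  rw [Z.hB, Z.hN, ← S.B_inf_N (F := F)]
  ext x
  simp only [Subgroup.mem_inf, Subgroup.mem_subgroupOf]
  tauto

theorem TorusData.card_torus (Z : TorusData S p G1) :
    Nat.card ↥(Z.P.B ⊓ Z.P.N) = Nat.card ↥(D.diagonalSubgroup F ⊓ G1) := by
  rw [Z.torus_eq]
  exact Nat.card_congr (Subgroup.subgroupOfEquivOfLe inf_le_right).toEquiv

theorem TorusData.mem_diag (Z : TorusData S p G1) {x : ↥G1} (h : x ∈ Z.P.B ⊓ Z.P.N) :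
    (x : GL D.Idx F) ∈ D.diagonalSubgroup F := by
  rw [Z.torus_eq, Subgroup.mem_subgroupOf] at h
  exact h.1

theorem TorusData.comm (Z : TorusData S p G1) (a : ↥G1) (ha : a ∈ Z.P.B ⊓ Z.P.N) (b : ↥G1)
    (hb : b ∈ Z.P.B ⊓ Z.P.N) : a * b = b * a := by
  obtain ⟨c, hc⟩ := (S.ok.diagonalSubgroup_eq (F := F)) ▸ Z.mem_diag ha
  obtain ⟨d, hd⟩ := (S.ok.diagonalSubgroup_eq (F := F)) ▸ Z.mem_diag hb
  exact Subtype.ext (by rw [Subgroup.coe_mul, Subgroup.coe_mul, ← hc, ← hd, ← map_mul, mul_comm, map_mul])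

/-- The Weyl group of the system, as a map from the monomial elements. -/
theorem TorusData.weyl (Z : TorusData S p G1) {W : Type w} [Group W] (φ : ↥(D.monomialSubgroup F ⊓ G1) →* W)
    (hφ : Function.Surjective φ)
    (hker : φ.ker = (D.diagonalSubgroup F ⊓ G1).subgroupOf (D.monomialSubgroup F ⊓ G1)) :
    (∀ M : ℕ, (∀ w : W, w ^ M = 1) → ∀ n ∈ Z.P.N, n ^ M ∈ Z.P.B ⊓ Z.P.N) ∧
      (∀ n ∈ Z.P.N, ∀ t ∈ Z.P.B ⊓ Z.P.N, n * t * n⁻¹ ∈ Z.P.B ⊓ Z.P.N) ∧
      (Z.P.B ⊓ Z.P.N).relIndex Z.P.N = Nat.card W := by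
  have hmem : ∀ n : ↥G1, n ∈ Z.P.N → (n : GL D.Idx F) ∈ D.monomialSubgroup F ⊓ G1 := fun n hn => by
    rw [Z.hN] at hn; exact hn
  have hk : ∀ (n : ↥G1) (hn : n ∈ Z.P.N), φ ⟨n, hmem n hn⟩ = 1 ↔ n ∈ Z.P.B ⊓ Z.P.N := fun n hn => by
    rw [← MonoidHom.mem_ker, hker, Z.torus_eq]
    rfl
  let ψ : ↥Z.P.N →* W := φ.comp
    (MonoidHom.codRestrict (G1.subtype.comp Z.P.N.subtype) _ fun n => hmem _ n.2)
  have hψ : ∀ n : ↥Z.P.N, ψ n = φ ⟨_, hmem _ n.2⟩ := fun n => rfl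
  have hψker : ψ.ker = (Z.P.B ⊓ Z.P.N).subgroupOf Z.P.N := by
    ext n
    rw [MonoidHom.mem_ker, hψ, hk _ n.2, Subgroup.mem_subgroupOf]
  refine ⟨fun M hM n hn => ?_, fun n hn t ht => ?_, ?_⟩
  · exact (hk _ (Z.P.N.pow_mem hn M)).1 (hM (φ ⟨n, hmem n hn⟩) ▸ (map_pow φ ⟨_, hmem n hn⟩ M).symm ▸ rfl)
  · haveI : ((Z.P.B ⊓ Z.P.N).subgroupOf Z.P.N).Normal := hψker ▸ MonoidHom.normal_ker ψ
    exact Subgroup.mem_subgroupOf.1
      (Subgroup.Normal.conj_mem ‹((Z.P.B ⊓ Z.P.N).subgroupOf Z.P.N).Normal› ⟨t, ht.2⟩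
        (Subgroup.mem_subgroupOf.2 ht) ⟨n, hn⟩)
  · have hs : Function.Surjective ψ := fun w => by
      obtain ⟨n, rfl⟩ := hφ w
      exact ⟨⟨⟨n.1, n.2.2⟩, by rw [Z.hN]; exact n.2⟩, rfl⟩
    rw [Subgroup.relIndex, ← hψker, Subgroup.index_ker, MonoidHom.range_eq_top.2 hs, Subgroup.card_top]

/-- The index of the torus from the group order. -/
theorem TorusData.index_eq (Z : TorusData S p G1) {b t : ℕ} (ht : Nat.card ↥(D.diagonalSubgroup F ⊓ G1) = t)
    (h : Nat.card ↥G1 = t * b) : (Z.P.B ⊓ Z.P.N).index = b := by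
  have h1 := Subgroup.card_mul_index (Z.P.B ⊓ Z.P.N)
  rw [Z.card_torus, ht, h] at h1
  have ht0 : 0 < t := ht ▸ Nat.card_pos
  exact Nat.eq_of_mul_eq_mul_left ht0 h1

/-- Sections excluded by the automizers. -/
theorem TorusData.no_auto [Fact p.Prime] [CharP F p] (Z : TorusData S p G1) {l : ℕ} [Fact l.Prime] (hlp : l ≠ p) {M : ℕ}
    (hidx : ¬l ∣ (Z.P.B ⊓ Z.P.N).index) (hM : ∀ n ∈ Z.P.N, n ^ M ∈ Z.P.B ⊓ Z.P.N)
    {A : Type w} [Group A] {X : Subgroup ↥G1} (f : ↥X →* A) (hf : Function.Surjective f) {x y : A} {k : ℕ}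
    (hx : orderOf x = l) (hxy : y * x * y⁻¹ = x ^ k) (hk : k ^ M % l ≠ 1) : False :=
  no_section_split (Cfsg.Lib.Known.SylFix.split_sub p S Z.P Z.hB Z.hN Z.hdec) hlp hidx Z.comm hM f hf hx hxy hk

/-- A section is carried along an embedding. -/
theorem map_section {G : Type u} [Group G] {G' : Type w} [Group G'] (ι : G →* G') (hι : Function.Injective ι)
    {A : Type*} [Group A] {X : Subgroup G} (f : ↥X →* A) (hf : Function.Surjective f) :
    ∃ (X' : Subgroup G') (f' : ↥X' →* A), Function.Surjective f' :=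
  ⟨X.map ι, f.comp (X.equivMapOfInjective ι hι).symm.toMonoidHom,
    hf.comp (X.equivMapOfInjective ι hι).symm.surjective⟩

/-- There are at most two units of square one. -/
theorem card_units_sq : Nat.card {u : Fˣ // u * u = 1} ≤ 2 := by
  have hmem : ∀ u : {u : Fˣ // u * u = 1}, (u.1 : F) ∈ ({1, -1} : Set F) := fun u => by
    have h : ((u.1 : F)) * (u.1 : F) = 1 := by rw [← Units.val_mul, u.2, Units.val_one]
    exact mul_self_eq_one_iff.1 h
  refine le_trans (Nat.card_le_card_of_injective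
    (fun u => Subtype.mk (p := fun x : F => x ∈ ({1, -1} : Set F)) (u.1 : F) (hmem u))
    fun a b h => Subtype.ext (Units.ext (Subtype.ext_iff.1 h))) ?_
  exact (Nat.card_coe_set_eq ({1, -1} : Set F)).le.trans ((Set.ncard_insert_le _ _).trans (by simp))

/-- The dihedral relation bounds the exponent. -/
theorem pow_six_G2 (w : CoxeterMatrix.G₂.Group) : w ^ 6 = 1 := by
  set cs := CoxeterMatrix.G₂.toCoxeterSystem
  set a := cs.simple 0
  set b := cs.simple 1
  set c := a * b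
  have haa : a * a = 1 := cs.simple_mul_simple_self 0
  have hc6 : c ^ 6 = 1 := cs.simple_mul_simple_pow 0 1
  have hinv : ∀ j : ℤ, a * c ^ j = c ^ (-j) * a := fun j => by
    have hbb : b * b = 1 := cs.simple_mul_simple_self 1
    have ha' : a⁻¹ = a := inv_eq_of_mul_eq_one_right haa
    have hb' : b⁻¹ = b := inv_eq_of_mul_eq_one_right hbb
    have h1 : a * c * a⁻¹ = c⁻¹ := by rw [mul_inv_rev, ha', hb', ← mul_assoc, haa, one_mul]
    rw [zpow_neg, ← inv_zpow, ← h1, conj_zpow]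
    group
  have key : ∃ j : ℤ, w = c ^ j ∨ w = c ^ j * a := by
    refine cs.simple_induction_left (p := fun w => ∃ j : ℤ, w = c ^ j ∨ w = c ^ j * a) w
      ⟨0, Or.inl (zpow_zero c).symm⟩ fun w i ih => ?_
    obtain ⟨j, hj⟩ := ih
    have hb1 : ∀ z, cs.simple 1 * z = a * (c * z) := fun z => by
      rw [← mul_assoc a c z, ← mul_assoc a a b, haa, one_mul]
    fin_cases i
    · refine ⟨-j, ?_⟩
      rcases hj with rfl | rfl
      · exact Or.inr (hinv j)
      · exact Or.inl (by show a * (c ^ j * a) = _; rw [← mul_assoc, hinv, mul_assoc, haa, mul_one])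
    · refine ⟨-(1 + j), ?_⟩
      show cs.simple 1 * w = _ ∨ cs.simple 1 * w = _
      rcases hj with rfl | rfl
      · exact Or.inr (by rw [hb1, ← zpow_one_add, hinv])
      · exact Or.inl (by rw [hb1, ← mul_assoc c, ← zpow_one_add, ← mul_assoc, hinv, mul_assoc, haa, mul_one])
  obtain ⟨j, rfl | rfl⟩ := key
  · rw [← zpow_natCast, ← zpow_mul, mul_comm, zpow_mul, zpow_natCast, hc6, one_zpow]
  · rw [show (6 : ℕ) = 2 * 3 from rfl, pow_mul, pow_two,
      show c ^ j * a * (c ^ j * a) = c ^ j * (a * c ^ j) * a by group, hinv, ← mul_assoc, ← zpow_add, add_neg_cancel,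
      zpow_zero, one_mul, haa, one_pow]

end Cfsg.Lib.Known.AltSections
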