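import Cfsg.Agent.Chev.Types

/-!
# Powers in the Weyl group of type `F₄`

Every element `w` satisfies `w ^ 6 = 1`, `w ^ 8 = 1` or `w ^ 6 = -1`.
-/

set_option autoImplicit false
set_option maxRecDepth 100000

namespace Cfsg.Lib.Known.AltSections

open Cfsg.Lie Cfsg.Lib.Chev

/-- The functions obtained from the representatives of a chain of levels, highest first. -/
def InLevs : List Lev → (ℕ → ℕ) → Prop
  | [], f => ∀ s < 48, f s = s
  | V :: Vs, f => ∃ a < V.num, ∃ g, InLevs Vs g ∧ ∀ s < 48, f s = V.im a (g s)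

/-- The check for one level. -/
noncomputable def okClose (C : Cert) (V : Lev) (k : ℕ) : Bool :=
  Nat.blt 0 V.num && kall (fun s => Nat.beq (V.im 0 s) s) (krange 0 48) &&
    kall (fun a => kall (fun s => Nat.blt (V.im a s) 48) (krange 0 48)) (krange 0 V.num) &&
    kall (fun a => kall (fun i =>
      let q := (V.nx.getD a []).getD i (0, 0)
      Nat.blt q.1 V.num && Nat.ble q.2 k && kall (fun s => Nat.beq (C.w i (V.im a s))
        (V.im q.1 (Bool.rec (C.w q.2 s) s (Nat.beq q.2 k)))) (krange 0 48))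
      (krange 0 (Nat.add k 1))) (krange 0 V.num)

/-- The checks for a chain, highest first. -/
inductive Closed (C : Cert) : List Lev → Prop
  | nil : Closed C []
  | cons {V : Lev} {Vs : List Lev} : okClose C V Vs.length = true → Closed C Vs → Closed C (V :: Vs)

theorem inLevs_lt {C : Cert} : ∀ {Vs : List Lev}, Closed C Vs → ∀ {f : ℕ → ℕ}, InLevs Vs f →
    ∀ s < 48, f s < 48
  | [], _, f, hf, s, hs => by rw [hf s hs]; exact hs
  | V :: Vs, .cons hV hVs, f, ⟨a, ha, g, hg, hfg⟩, s, hs => by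
    rw [hfg s hs]
    simp only [okClose, Bool.and_eq_true, kall_iff, krange_eq, List.mem_range'_1, blt_true,
      Nat.zero_add, Nat.zero_le, true_and] at hV
    exact hV.1.2 a ha _ (inLevs_lt hVs hg s hs)

theorem inLevs_id {C : Cert} : ∀ {Vs : List Lev}, Closed C Vs → InLevs Vs id
  | [], _ => fun _ _ => rfl
  | V :: Vs, .cons hV hVs => by
    simp only [okClose, Bool.and_eq_true, kall_iff, krange_eq, List.mem_range'_1, blt_true,
      Nat.zero_add, Nat.zero_le, true_and] at hV
    exact ⟨0, hV.1.1.1, id, inLevs_id hVs, fun s hs => (Nat.eq_of_beq_eq_true (hV.1.1.2 s hs)).symm⟩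

theorem inLevs_step {C : Cert} : ∀ {Vs : List Lev}, Closed C Vs → ∀ {f : ℕ → ℕ}, InLevs Vs f →
    ∀ i < Vs.length, InLevs Vs fun s => C.w i (f s)
  | [], _, _, _, i, hi => absurd hi (Nat.not_lt_zero i)
  | V :: Vs, .cons hV hVs, f, ⟨a, ha, g, hg, hfg⟩, i, hi => by
    simp only [okClose, Bool.and_eq_true, kall_iff, krange_eq, List.mem_range'_1, blt_true, Nat.ble_eq,
      Nat.zero_add, Nat.zero_le, true_and, Nat.add_eq] at hV
    obtain ⟨⟨hb, hj⟩, he⟩ := hV.2 a ha i (by simpa using hi)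
    set q := (V.nx.getD a []).getD i (0, 0)
    rcases eq_or_ne q.2 Vs.length with hk | hk
    · refine ⟨q.1, hb, g, hg, fun s hs => ?_⟩
      have := Nat.eq_of_beq_eq_true (he _ (inLevs_lt hVs hg s hs))
      rw [hk, Nat.beq_refl] at this
      show C.w i (f s) = _
      rw [hfg s hs]
      exact this
    · refine ⟨q.1, hb, _, inLevs_step hVs hg q.2 (lt_of_le_of_ne hj hk), fun s hs => ?_⟩
      have := Nat.eq_of_beq_eq_true (he _ (inLevs_lt hVs hg s hs))
      have hne : Nat.beq q.2 Vs.length = false := by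
        cases h : Nat.beq q.2 Vs.length
        · rfl
        · exact absurd (Nat.eq_of_beq_eq_true h) hk
      rw [hne] at this
      show C.w i (f s) = _
      rw [hfg s hs]
      exact this

/-- The function of a representative of the Weyl group of type `F₄`. -/
noncomputable def f4fun (a b c d : ℕ) (s : ℕ) : ℕ :=
  F4.lev3.im a (F4.lev2.im b (F4.lev1.im c (F4.lev0.im d s)))

/-- The image of a root under the longest element. -/
noncomputable def f4neg (r : ℕ) : ℕ :=
  let g : ℕ → ℕ := fun x => F4.cert.w 0 (F4.cert.w 1 (F4.cert.w 2 (F4.cert.w 3 x)))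
  let g3 : ℕ → ℕ := fun x => g (g (g x))
  g3 (g3 r)

/-- The check on the powers of one element. -/
noncomputable def okPow (f : ℕ → ℕ) : Bool :=
  let p2 : ℕ → ℕ := fun x => f (f x)
  let p3 : ℕ → ℕ := fun x => f (p2 x)
  let p4 : ℕ → ℕ := fun x => p2 (p2 x)
  kall (fun j => Nat.beq (p3 (p3 (F4.cert.sr j))) (F4.cert.sr j)) (krange 0 4) ||
    kall (fun j => Nat.beq (p4 (p4 (F4.cert.sr j))) (F4.cert.sr j)) (krange 0 4) ||
    kall (fun j => Nat.beq (p3 (p3 (F4.cert.sr j))) (f4neg (F4.cert.sr j))) (krange 0 4)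

theorem closed_f4 : Closed F4.cert [F4.lev3, F4.lev2, F4.lev1, F4.lev0] :=
  .cons (by decide +kernel) (.cons (by decide +kernel) (.cons (by decide +kernel) (.cons (by decide +kernel) .nil)))

theorem pow_table : kall (fun a => kall (fun b => kall (fun c => kall (fun d => okPow (f4fun a b c d))
    (krange 0 2)) (krange 0 3)) (krange 0 8)) (krange 0 24) = true := by
  decide +kernel

theorem neg_table : kall (fun r => Nat.beq (f4neg r) (F4.cert.neg r)) (krange 0 48) = true := by
  decide +kernel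

theorem nums : F4.lev3.num = 24 ∧ F4.lev2.num = 8 ∧ F4.lev1.num = 3 ∧ F4.lev0.num = 2 := by decide +kernel

theorem f4_word_fun : ∀ L : List (Fin chevF4.rank), ∃ f, InLevs [F4.lev3, F4.lev2, F4.lev1, F4.lev0] f ∧
    ∀ r : Fin chevF4.nroots, (F4.struct.wpL L r).val = f r.val
  | [] => ⟨id, inLevs_id closed_f4, fun r => by simp [Struct.wpL]⟩
  | i :: L => by
    obtain ⟨f, hf, he⟩ := f4_word_fun L
    refine ⟨_, inLevs_step closed_f4 hf i.val i.isLt, fun r => ?_⟩
    show (F4.struct.wpL (i :: L) r).val = F4.cert.w i.val (f r.val)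
    rw [← he r, show F4.struct.wpL (i :: L) = F4.struct.wp i * F4.struct.wpL L by simp [Struct.wpL],
      Equiv.Perm.mul_apply, Struct.wp_val]

/-- The three possibilities for the powers. -/
theorem f4_pow_cases {w : Equiv.Perm (Fin chevF4.nroots)} (hw : w ∈ F4.struct.WG) :
    w ^ 6 = 1 ∨ w ^ 8 = 1 ∨ ∀ r : Fin chevF4.nroots, ((w ^ 6) r).val = chevF4.neg r.val := by
  obtain ⟨L, rfl⟩ := F4.struct.exists_wpL hw
  obtain ⟨f, hf, he⟩ := f4_word_fun L
  obtain ⟨a, ha, g, ⟨b, hb, g', ⟨c, hc, g'', ⟨d, hd, g₀, hg₀, e₀⟩, e₁⟩, e₂⟩, e₃⟩ := hf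
  obtain ⟨n3, n2, n1, n0⟩ := nums
  have hfun : ∀ s < 48, f s = f4fun a b c d s := fun s hs => by
    rw [f4fun, e₃ s hs, e₂ s hs, e₁ s hs, e₀ s hs, hg₀ s hs]
  have hp : ∀ (n : ℕ) (r : Fin chevF4.nroots), ((F4.struct.wpL L ^ n) r).val = (f4fun a b c d)^[n] r.val := by
    intro n
    induction n with
    | zero => exact fun r => rfl
    | succ n ih =>
      intro r
      rw [pow_succ', Equiv.Perm.mul_apply, he, Function.iterate_succ_apply', ← ih]
      exact hfun _ (Fin.isLt _)
  have hw' : ∀ n, F4.struct.wpL L ^ n ∈ F4.struct.WG := fun n => Subgroup.pow_mem _ hw n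
  have h := pow_table
  simp only [kall_iff, krange_eq, List.mem_range'_1, Nat.zero_add, Nat.zero_le, true_and] at h
  have h' := h a (n3 ▸ ha) b (n2 ▸ hb) c (n1 ▸ hc) d (n0 ▸ hd)
  simp only [okPow, Bool.or_eq_true, kall_iff, krange_eq, List.mem_range'_1, Nat.zero_add, Nat.zero_le,
    true_and] at h'
  rcases h' with (h6 | h8) | hn
  · refine Or.inl (F4.struct.ext_simple (hw' 6) (one_mem _) fun j => Fin.ext ?_)
    rw [hp]
    exact Nat.eq_of_beq_eq_true (h6 j.val j.isLt)
  · refine Or.inr (Or.inl (F4.struct.ext_simple (hw' 8) (one_mem _) fun j => Fin.ext ?_))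
    rw [hp]
    exact Nat.eq_of_beq_eq_true (h8 j.val j.isLt)
  · refine Or.inr (Or.inr fun r => ?_)
    let i : Fin 4 → Fin chevF4.rank := fun k => ⟨k.val, k.isLt⟩
    let z : List (Fin chevF4.rank) := [i 0, i 1, i 2, i 3]
    have hz : ∀ r : Fin chevF4.nroots, (F4.struct.wpL (z ++ z ++ z ++ z ++ z ++ z) r).val = f4neg r.val := by
      intro r
      simp only [z, Struct.wpL, List.cons_append, List.nil_append, List.map_cons, List.map_nil, List.prod_cons,
        List.prod_nil, Equiv.Perm.mul_apply, Equiv.Perm.one_apply, Struct.wp_val]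
      rfl
    have heq : F4.struct.wpL L ^ 6 = F4.struct.wpL (z ++ z ++ z ++ z ++ z ++ z) :=
      F4.struct.ext_simple (hw' 6) (F4.struct.wpL_mem_WG _) fun j => Fin.ext (by
        rw [hp, hz]
        exact Nat.eq_of_beq_eq_true (hn j.val j.isLt))
    rw [heq, hz]
    have ht := neg_table
    simp only [kall_iff, krange_eq, List.mem_range'_1, Nat.zero_add, Nat.zero_le, true_and] at ht
    rw [Nat.eq_of_beq_eq_true (ht r.val r.isLt), F4.struct.ok.neg_eq r.isLt]

end Cfsg.Lib.Known.AltSections
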